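import Mathlib
import Cfsg.Prelude.Def_Characters
import Cfsg.Prelude.Def_Blocks
import Cfsg.Agent.Characters.Core
import Cfsg.Agent.Characters.Values
import Cfsg.Agent.Characters.Clifford
import Cfsg.Agent.Characters.Linear
import Cfsg.Agent.Blocks.Deflate
import Cfsg.Agent.S0145

/-!
# Small kit on irreducible characters: kernels, inflation, column orthogonality

* `chKer χ`: the kernel of an irreducible character as a subgroup;
* `inflEquiv N`: the irreducible characters of `G ⧸ N` are the irreducible characters of `G` with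
  `N` in the kernel;
* `col_orth`, `col_orth_self`, `sum_normSq`: column orthogonality;
* `charDegree_cast`: `χ 1 = charDegree χ`;
* `sum_class`: sum over the group of a class function supported on `1` and one class.
-/

set_option autoImplicit false
set_option linter.unusedSectionVars false

namespace Cfsg.Agent.H686.CharKit

open Cfsg Cfsg.Agent.Characters
open scoped ComplexConjugate

universe u

variable {G : Type u} [Group G]

theorem charDegree_cast {χ : G → ℂ} (hχ : IsCharacter G χ) : (charDegree χ : ℂ) = χ 1 := by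
  obtain ⟨n, hn⟩ := Core.isCharacter_apply_one hχ
  unfold charDegree
  rw [hn, Complex.natCast_re, Nat.floor_natCast]

theorem charDegree_irr (χ : IrrCharacter G) : (charDegree (χ : G → ℂ) : ℂ) = (χ : G → ℂ) 1 :=
  charDegree_cast (Core.isIrr_isCharacter χ.2)

theorem charDegree_pos (χ : IrrCharacter G) : 0 < charDegree (χ : G → ℂ) := by
  rcases Nat.eq_zero_or_pos (charDegree (χ : G → ℂ)) with h | h
  · have := charDegree_irr χ
    rw [h, Nat.cast_zero] at this
    exact absurd this.symm (Core.isIrr_apply_one_ne_zero χ.2)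
  · exact h

theorem charDegree_eq_one_iff (χ : IrrCharacter G) :
    charDegree (χ : G → ℂ) = 1 ↔ (χ : G → ℂ) 1 = 1 := by
  rw [← charDegree_irr χ]
  norm_cast

section Ker

variable [Finite G]

/-- An element at which a character takes its degree acts trivially. -/
theorem apply_mul_of_eq {χ : G → ℂ} (hχ : IsCharacter G χ) {g : G} (hg : χ g = χ 1) (h : G) :
    χ (g * h) = χ h := by
  obtain ⟨n, ρ, rfl⟩ := Core.isCharacter_def.1 hχ
  have h1 : ρ g = LinearMap.id := by
    rw [← Values.character_eq_finrank_iff, hg, Representation.char_one]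
  have h2 : ρ (g * h) = ρ h := by
    rw [map_mul, h1]
    rfl
  show LinearMap.trace ℂ _ (ρ (g * h)) = LinearMap.trace ℂ _ (ρ h)
  rw [h2]

theorem apply_mul_of_eq' {χ : G → ℂ} (hχ : IsCharacter G χ) {g : G} (hg : χ g = χ 1) (h : G) :
    χ (h * g) = χ h := by
  have h1 : h * g = h * (g * h) * h⁻¹ := by group
  rw [h1, Core.isCharacter_isClassFunction hχ, apply_mul_of_eq hχ hg]

/-- The kernel of an irreducible character. -/
def chKer (χ : IrrCharacter G) : Subgroup G where
  carrier := {g | (χ : G → ℂ) g = (χ : G → ℂ) 1}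
  one_mem' := rfl
  mul_mem' := by
    intro a b ha hb
    show (χ : G → ℂ) (a * b) = (χ : G → ℂ) 1
    rw [apply_mul_of_eq (Core.isIrr_isCharacter χ.2) ha]
    exact hb
  inv_mem' := by
    intro a ha
    show (χ : G → ℂ) a⁻¹ = (χ : G → ℂ) 1
    rw [← apply_mul_of_eq (Core.isIrr_isCharacter χ.2) ha a⁻¹, mul_inv_cancel]

theorem mem_chKer {χ : IrrCharacter G} {g : G} :
    g ∈ chKer χ ↔ (χ : G → ℂ) g = (χ : G → ℂ) 1 := Iff.rfl

instance chKer_normal (χ : IrrCharacter G) : (chKer χ).Normal := by
  constructor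
  intro n hn g
  show (χ : G → ℂ) (g * n * g⁻¹) = (χ : G → ℂ) 1
  rw [Core.isIrr_isClassFunction χ.2]
  exact hn

/-- Inflation of irreducible characters. -/
def infl (N : Subgroup G) [N.Normal] (ψ : IrrCharacter (G ⧸ N)) : IrrCharacter G :=
  ⟨(ψ : G ⧸ N → ℂ) ∘ (QuotientGroup.mk' N),
    Core.isIrr_comp (QuotientGroup.mk' N) (QuotientGroup.mk'_surjective N) ψ.2⟩

theorem infl_apply (N : Subgroup G) [N.Normal] (ψ : IrrCharacter (G ⧸ N)) (g : G) :
    (infl N ψ : G → ℂ) g = (ψ : G ⧸ N → ℂ) (g : G ⧸ N) := rfl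

theorem le_chKer_infl (N : Subgroup G) [N.Normal] (ψ : IrrCharacter (G ⧸ N)) :
    N ≤ chKer (infl N ψ) := by
  intro n hn
  rw [mem_chKer, infl_apply, infl_apply, (QuotientGroup.eq_one_iff n).2 hn]
  rfl

theorem infl_injective (N : Subgroup G) [N.Normal] : Function.Injective (infl N) := by
  intro ψ ψ' h
  apply Subtype.ext
  funext x
  obtain ⟨g, rfl⟩ := QuotientGroup.mk_surjective x
  rw [← infl_apply, ← infl_apply, h]

theorem exists_infl (N : Subgroup G) [N.Normal] (χ : IrrCharacter G) (h : N ≤ chKer χ) :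
    ∃ ψ : IrrCharacter (G ⧸ N), infl N ψ = χ := by
  have : Fintype N := Fintype.ofFinite N
  obtain ⟨ψ, hψ⟩ := Cfsg.Agent.Blocks.Deflate.exists_deflation N (χ : G → ℂ) χ.2 (by
    have h1 : ∀ n : N, (χ : G → ℂ) n = (χ : G → ℂ) 1 := fun n => h n.2
    rw [Finset.sum_congr rfl fun n _ => h1 n, Finset.sum_const, nsmul_eq_mul]
    refine mul_ne_zero ?_ (Core.isIrr_apply_one_ne_zero χ.2)
    rw [Finset.card_univ, Nat.cast_ne_zero]
    exact Fintype.card_ne_zero)
  exact ⟨ψ, Subtype.ext hψ.symm⟩

/-- The irreducible characters of a quotient. -/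
noncomputable def inflEquiv (N : Subgroup G) [N.Normal] :
    IrrCharacter (G ⧸ N) ≃ {χ : IrrCharacter G // N ≤ chKer χ} :=
  Equiv.ofBijective (fun ψ => ⟨infl N ψ, le_chKer_infl N ψ⟩)
    ⟨fun _ _ h => infl_injective N (congrArg Subtype.val h), fun χ => by
      obtain ⟨ψ, hψ⟩ := exists_infl N χ.1 χ.2
      exact ⟨ψ, Subtype.ext hψ⟩⟩

theorem inflEquiv_apply (N : Subgroup G) [N.Normal] (ψ : IrrCharacter (G ⧸ N)) (g : G) :
    ((inflEquiv N ψ).1 : G → ℂ) g = (ψ : G ⧸ N → ℂ) (g : G ⧸ N) := rfl

/-- The intersection of the kernels of all irreducible characters with `N` in the kernel is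
`N`. -/
theorem mem_of_forall_chKer (N : Subgroup G) [N.Normal] {g : G}
    (h : ∀ χ : IrrCharacter G, N ≤ chKer χ → g ∈ chKer χ) : g ∈ N := by
  have h1 : IsConj (g : G ⧸ N) 1 := by
    by_contra hc
    have : Fintype G := Fintype.ofFinite G
    have : Fintype (G ⧸ N) := Fintype.ofFinite _
    have := Core.finite_irr (G := G ⧸ N)
    have : Fintype (IrrCharacter (G ⧸ N)) := Fintype.ofFinite _
    classical
    have h2 := Cfsg.Agent.S0145.sum_irr_mul_conj (G := G ⧸ N) (g : G ⧸ N) 1
    rw [if_neg hc] at h2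
    have h3 := Cfsg.Agent.S0145.sum_irr_mul_conj (G := G ⧸ N) (1 : G ⧸ N) 1
    rw [if_pos (IsConj.refl _)] at h3
    have h4 : ∀ ψ : IrrCharacter (G ⧸ N), (ψ : G ⧸ N → ℂ) (g : G ⧸ N) = (ψ : G ⧸ N → ℂ) 1 :=
      fun ψ => h (infl N ψ) (le_chKer_infl N ψ)
    rw [Finset.sum_congr rfl fun ψ _ => by rw [h4 ψ]] at h2
    rw [h2] at h3
    have : (Nat.card (Subgroup.centralizer ({(1 : G ⧸ N)} : Set (G ⧸ N))) : ℂ) ≠ 0 := by
      exact_mod_cast Nat.card_pos.ne'
    exact this h3.symm
  rw [isConj_one_left] at h1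
  exact (QuotientGroup.eq_one_iff g).1 h1

end Ker

section Orth

variable [Finite G]

theorem col_orth [Fintype (IrrCharacter G)] (g h : G) [Decidable (IsConj g h)] :
    ∑ χ : IrrCharacter G, (χ : G → ℂ) g * conj ((χ : G → ℂ) h)
      = if IsConj g h then (Nat.card (Subgroup.centralizer ({h} : Set G)) : ℂ) else 0 := by
  have : Fintype G := Fintype.ofFinite G
  exact Cfsg.Agent.S0145.sum_irr_mul_conj g h

theorem sum_normSq [Fintype (IrrCharacter G)] (g : G) :
    ∑ χ : IrrCharacter G, Complex.normSq ((χ : G → ℂ) g)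
      = (Nat.card (Subgroup.centralizer ({g} : Set G)) : ℝ) := by
  classical
  have h := col_orth g g
  rw [if_pos (IsConj.refl g)] at h
  have h1 : (((∑ χ : IrrCharacter G, Complex.normSq ((χ : G → ℂ) g) : ℝ)) : ℂ)
      = (Nat.card (Subgroup.centralizer ({g} : Set G)) : ℂ) := by
    rw [← h, Complex.ofReal_sum]
    exact Finset.sum_congr rfl fun χ _ => by rw [Complex.mul_conj]
  exact_mod_cast h1

theorem sum_deg_sq [Fintype (IrrCharacter G)] :
    ∑ χ : IrrCharacter G, charDegree (χ : G → ℂ) ^ 2 = Nat.card G := by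
  classical
  have h := col_orth (1 : G) 1
  rw [if_pos (IsConj.refl _)] at h
  have h2 : Nat.card (Subgroup.centralizer ({(1 : G)} : Set G)) = Nat.card G := by
    have : Subgroup.centralizer ({(1 : G)} : Set G) = ⊤ := by
      rw [eq_top_iff]
      intro x _
      rw [Subgroup.mem_centralizer_iff]
      intro y hy
      rw [Set.mem_singleton_iff] at hy
      subst hy
      rw [one_mul, mul_one]
    rw [this, Nat.card_congr Subgroup.topEquiv.toEquiv]
  rw [h2] at h
  have h3 : ((∑ χ : IrrCharacter G, charDegree (χ : G → ℂ) ^ 2 : ℕ) : ℂ) = (Nat.card G : ℂ) := by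
    rw [← h, Nat.cast_sum]
    refine Finset.sum_congr rfl fun χ _ => ?_
    rw [Nat.cast_pow, charDegree_irr χ, sq, ← charDegree_irr χ, Complex.conj_natCast]
  exact_mod_cast h3

end Orth

section Class

variable [Fintype G]

/-- The number of conjugates of `x`. -/
theorem card_class_mul_centralizer (x : G) [DecidablePred fun y : G => IsConj x y] :
    (Finset.univ.filter fun y : G => IsConj x y).card *
      Nat.card (Subgroup.centralizer ({x} : Set G)) = Nat.card G := by
  classical
  have h := Cfsg.Agent.S0145.card_centralizer_mul_card_class x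
  rw [mul_comm] at h
  rw [← h]
  congr 2
  ext y
  simp only [Finset.mem_filter, Finset.mem_univ, true_and]
  exact ⟨IsConj.symm, IsConj.symm⟩

/-- The sum of a class function supported on `1` and the class of `x ≠ 1`. -/
theorem sum_class {F : G → ℂ} (hF : IsClassFunction G F) {x : G} (hx : x ≠ 1)
    [DecidablePred fun y : G => IsConj x y]
    (hsupp : ∀ g, F g ≠ 0 → g = 1 ∨ IsConj x g) :
    ∑ g : G, F g = F 1 + ((Finset.univ.filter fun y : G => IsConj x y).card : ℂ) * F x := by
  classical
  have h1 : ∑ g : G, F g = ∑ g ∈ insert 1 (Finset.univ.filter fun y : G => IsConj x y), F g := by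
    refine (Finset.sum_subset (Finset.subset_univ _) fun g _ hg => ?_).symm
    by_contra hne
    rcases hsupp g hne with h | h
    · exact hg (by rw [h]; exact Finset.mem_insert_self _ _)
    · exact hg (Finset.mem_insert_of_mem (Finset.mem_filter.2 ⟨Finset.mem_univ _, h⟩))
  rw [h1, Finset.sum_insert]
  · congr 1
    rw [Finset.sum_congr rfl (g := fun _ => F x), Finset.sum_const, nsmul_eq_mul]
    intro g hg
    have h2 := (Finset.mem_filter.1 hg).2
    exact (Core.classFunction_apply_eq hF h2).symm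
  · intro h
    have h2 := (Finset.mem_filter.1 h).2
    rw [isConj_one_left] at h2
    exact hx h2

end Class

section Act

/-- Conjugation action on the irreducible characters of a normal subgroup:
`(g • θ) n = θ (g⁻¹ * n * g)`. -/
@[reducible]
def irrAct (N : Subgroup G) [N.Normal] : MulAction G (IrrCharacter N) where
  smul g θ := ⟨(θ : N → ℂ) ∘ (MulAut.conjNormal g⁻¹ : MulAut N), Clifford.isIrr_conjNormal θ.2 g⁻¹⟩
  one_smul θ := by
    apply Subtype.ext
    funext n
    show (θ : N → ℂ) ((MulAut.conjNormal (1 : G)⁻¹ : MulAut N) n) = (θ : N → ℂ) n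
    rw [inv_one, map_one]
    rfl
  mul_smul g h θ := by
    apply Subtype.ext
    funext n
    show (θ : N → ℂ) ((MulAut.conjNormal (g * h)⁻¹ : MulAut N) n)
      = (θ : N → ℂ) ((MulAut.conjNormal h⁻¹ : MulAut N) ((MulAut.conjNormal g⁻¹ : MulAut N) n))
    rw [mul_inv_rev, map_mul]
    rfl

variable (N : Subgroup G) [hN : N.Normal]

theorem irrAct_apply (g : G) (θ : IrrCharacter N) (n : N) :
    (((irrAct N).smul g θ : IrrCharacter N) : N → ℂ) n
      = (θ : N → ℂ) ((MulAut.conjNormal g⁻¹ : MulAut N) n) := rfl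

/-- The inertia group of an irreducible character of a normal subgroup. -/
def inertia (θ : IrrCharacter N) : Subgroup G :=
  letI := irrAct N
  MulAction.stabilizer G θ

theorem mem_inertia {θ : IrrCharacter N} {g : G} :
    g ∈ inertia N θ ↔ ∀ n n' : N, (n' : G) = g * n * g⁻¹ → (θ : N → ℂ) n' = (θ : N → ℂ) n := by
  let _ := irrAct N
  show g • θ = θ ↔ _
  constructor
  · intro h n n' hn
    have h1 : (((irrAct N).smul g θ : IrrCharacter N) : N → ℂ) n' = (θ : N → ℂ) n' :=
      congrFun (congrArg Subtype.val h) n'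
    rw [irrAct_apply] at h1
    have h2 : (MulAut.conjNormal g⁻¹ : MulAut N) n' = n := by
      apply Subtype.ext
      rw [MulAut.conjNormal_apply, hn]
      group
    rw [← h1, h2]
  · intro h
    apply Subtype.ext
    funext n
    show (((irrAct N).smul g θ : IrrCharacter N) : N → ℂ) n = _
    rw [irrAct_apply]
    refine (h _ _ ?_).symm
    rw [MulAut.conjNormal_apply]
    group

theorem inertia_index [Finite G] (θ : IrrCharacter N) :
    (inertia N θ).index
      = Nat.card {ψ : IrrCharacter N // ∃ g : G, (ψ : N → ℂ)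
          = (θ : N → ℂ) ∘ (MulAut.conjNormal g : MulAut N)} := by
  let _ := irrAct N
  have h1 : (inertia N θ).index = Nat.card (MulAction.orbit G θ) := by
    show (MulAction.stabilizer G θ).index = _
    exact MulAction.index_stabilizer G θ
  rw [h1]
  refine Nat.card_congr (Equiv.subtypeEquivRight fun ψ => ?_)
  rw [MulAction.mem_orbit_iff]
  constructor
  · rintro ⟨g, hg⟩
    refine ⟨g⁻¹, ?_⟩
    rw [← hg]
    rfl
  · rintro ⟨g, hg⟩
    refine ⟨g⁻¹, Subtype.ext ?_⟩
    rw [hg]
    show (θ : N → ℂ) ∘ (MulAut.conjNormal g⁻¹⁻¹ : MulAut N) = _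
    rw [inv_inv]

end Act

end Cfsg.Agent.H686.CharKit
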