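import Mathlib
import Cfsg.Prelude.Def_Solvable
import Cfsg.Agent.H686.CharKit
import Cfsg.Agent.Characters.GaloisBasic
import Cfsg.Agent.Characters.Central

/-!
# Irreducible products of Galois conjugate characters

* `exists_const`: if `α * β` is irreducible, then for every normal subgroup `N` and every `m` the
  sums `∑ a ∈ N, α (a⁻¹ x) β (a ^ m y)` are a constant times `α x * β y`.
* `fitting_le_center`: if `χ` is faithful and `χ χ^σ` is irreducible then `F(G) = Z(G)`.
-/

set_option autoImplicit false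
set_option linter.unusedSectionVars false

namespace Cfsg.Agent.H686.GalProd

open Cfsg Cfsg.Agent.Characters Cfsg.Agent.H686.CharKit
open scoped ComplexConjugate TensorProduct

universe u

variable {G : Type u} [Group G] [Finite G]

theorem exists_const {α β : G → ℂ} (hα : IsCharacter G α) (hβ : IsCharacter G β)
    (hirr : IsIrrCharacter G (α * β)) (N : Subgroup G) [N.Normal] [Fintype N] (m : ℕ) :
    ∃ c : ℂ, ∀ x y : G, ∑ a : N, α ((a : G)⁻¹ * x) * β ((a : G) ^ m * y) = c * (α x * β y) := by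
  obtain ⟨n₁, ρ, rfl⟩ := hα
  obtain ⟨n₂, ρ', rfl⟩ := hβ
  set σ : Representation ℂ G ((Fin n₁ → ℂ) ⊗[ℂ] (Fin n₂ → ℂ)) := ρ.tprod ρ' with hσ
  have hσirr : σ.IsIrreducible := by
    apply Core.isIrreducible_of_isIrrCharacter
    rw [hσ, Representation.char_tensor]
    exact hirr
  set T : Module.End ℂ ((Fin n₁ → ℂ) ⊗[ℂ] (Fin n₂ → ℂ)) :=
    ∑ a : N, TensorProduct.map (ρ (a : G)⁻¹) (ρ' ((a : G) ^ m)) with hT
  have hcomm : ∀ g, T * σ g = σ g * T := by
    intro g
    rw [hT, Finset.sum_mul, Finset.mul_sum]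
    refine Fintype.sum_equiv (MulAut.conjNormal g⁻¹ : MulAut N).toEquiv _ _ fun a => ?_
    have h1 : ((MulAut.conjNormal g⁻¹ : MulAut N).toEquiv a : N) = (g⁻¹ * (a : G) * g : G) := by
      simp [MulAut.conjNormal_apply]
    rw [h1, hσ, Representation.tprod_apply]
    show (TensorProduct.map (ρ (a : G)⁻¹) (ρ' ((a : G) ^ m))) ∘ₗ (TensorProduct.map (ρ g) (ρ' g))
      = (TensorProduct.map (ρ g) (ρ' g)) ∘ₗ (TensorProduct.map (ρ (g⁻¹ * (a : G) * g)⁻¹)
        (ρ' ((g⁻¹ * (a : G) * g) ^ m)))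
    rw [← TensorProduct.map_comp, ← TensorProduct.map_comp]
    have h2 : ρ (a : G)⁻¹ ∘ₗ ρ g = ρ g ∘ₗ ρ (g⁻¹ * (a : G) * g)⁻¹ := by
      rw [← Module.End.mul_eq_comp, ← Module.End.mul_eq_comp, ← map_mul, ← map_mul]
      congr 1
      group
    have h3 : ρ' ((a : G) ^ m) ∘ₗ ρ' g = ρ' g ∘ₗ ρ' ((g⁻¹ * (a : G) * g) ^ m) := by
      rw [← Module.End.mul_eq_comp, ← Module.End.mul_eq_comp, ← map_mul, ← map_mul]
      congr 1
      have h4 : (g⁻¹ * (a : G) * g) ^ m = g⁻¹ * (a : G) ^ m * g := by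
        have := conj_pow (i := m) (a := g⁻¹) (b := (a : G))
        rwa [inv_inv] at this
      rw [h4]
      group
    rw [h2, h3]
  obtain ⟨c, hc⟩ := Central.exists_smul_of_comm σ hσirr T hcomm
  refine ⟨c, fun x y => ?_⟩
  have h1 : LinearMap.trace ℂ _ (T * TensorProduct.map (ρ x) (ρ' y))
      = ∑ a : N, ρ.character ((a : G)⁻¹ * x) * ρ'.character ((a : G) ^ m * y) := by
    rw [hT, Finset.sum_mul, map_sum]
    refine Finset.sum_congr rfl fun a _ => ?_
    rw [Module.End.mul_eq_comp, ← TensorProduct.map_comp, LinearMap.trace_tensorProduct']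
    show LinearMap.trace ℂ _ (ρ (a : G)⁻¹ * ρ x) * LinearMap.trace ℂ _ (ρ' ((a : G) ^ m) * ρ' y) = _
    rw [← map_mul, ← map_mul]
    rfl
  rw [← h1, hc, smul_mul_assoc, one_mul, map_smul, LinearMap.trace_tensorProduct', smul_eq_mul]
  rfl

section Main

variable {χ : G → ℂ} (hχ : IsIrrCharacter G χ)
  (hfaith : ∀ g : G, χ g = χ 1 → g = 1)

include hχ hfaith in
/-- An element at which a faithful character has the absolute value of its degree is central. -/
theorem mem_center_of_normSq {c : G} (h : χ c * χ c⁻¹ = χ 1 * χ 1) : c ∈ Subgroup.center G := by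
  obtain ⟨n, ρ, hρ, rfl⟩ := hχ
  have h1 : ‖ρ.character c‖ = (Module.finrank ℂ (Fin n → ℂ) : ℝ) := by
    rw [Core.isCharacter_apply_inv (Core.isCharacter_of_rep ρ), Complex.mul_conj,
      Representation.char_one] at h
    have h2 : Complex.normSq (ρ.character c)
        = (Module.finrank ℂ (Fin n → ℂ) : ℝ) * (Module.finrank ℂ (Fin n → ℂ) : ℝ) := by
      exact_mod_cast h
    rw [Complex.normSq_eq_norm_sq, sq] at h2
    exact (mul_self_inj (norm_nonneg _) (Nat.cast_nonneg _)).1 h2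
  obtain ⟨w, hw⟩ := (Values.norm_character_eq_iff ρ c).1 h1
  rw [Subgroup.mem_center_iff]
  intro g
  have h3 : ρ (g * c * g⁻¹ * c⁻¹) = LinearMap.id := by
    have h4 : ρ (g * c * g⁻¹) = ρ c := by
      rw [map_mul, map_mul, hw]
      have h5 : ρ g * (w • (LinearMap.id : (Fin n → ℂ) →ₗ[ℂ] (Fin n → ℂ))) * ρ g⁻¹
          = w • (ρ g * ρ g⁻¹) := by
        rw [← Module.End.one_eq_id, mul_smul_comm, smul_mul_assoc, mul_one]
      rw [h5, ← map_mul, mul_inv_cancel, map_one]
      rfl
    rw [map_mul, h4, ← map_mul, mul_inv_cancel, map_one]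
    rfl
  have h4 := hfaith (g * c * g⁻¹ * c⁻¹) (by
    rw [Representation.char_one]
    exact (Values.character_eq_finrank_iff ρ _).2 h3)
  have h5 : g * c = c * g := by
    have h6 : g * c * g⁻¹ = c := by
      have := mul_eq_one_iff_eq_inv.1 h4
      rwa [inv_inv] at this
    calc g * c = g * c * g⁻¹ * g := by group
      _ = c * g := by rw [h6]
  exact h5

variable {k : ℕ} (hk : Nat.Coprime k (Nat.card G))
  (hirr : IsIrrCharacter G (fun g => χ g * χ (g ^ k)))

include hk in
theorem exists_inv_pow : ∃ m : ℕ, ∀ g : G, (g ^ m) ^ k = g := by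
  by_cases h1 : 1 < Nat.card G
  · obtain ⟨m, -, hm⟩ := Nat.exists_mul_mod_eq_one_of_coprime hk h1
    refine ⟨m, fun g => ?_⟩
    rw [← pow_mul, mul_comm m k, ← pow_mod_natCard, hm, pow_one]
  · have h2 : Nat.card G = 1 := by
      have : 0 < Nat.card G := Nat.card_pos
      omega
    have : Subsingleton G := (Nat.card_eq_one_iff_unique.1 h2).1
    exact ⟨0, fun g => Subsingleton.elim _ _⟩

include hχ in
theorem mul_inv_eq (g : G) : χ g * χ g⁻¹ = ((Complex.normSq (χ g) : ℝ) : ℂ) := by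
  rw [Core.isCharacter_apply_inv (Core.isIrr_isCharacter hχ), Complex.mul_conj]

include hχ hfaith hk hirr in
theorem abelian_le_center (A : Subgroup G) [A.Normal] (hA : ∀ a ∈ A, ∀ b ∈ A, a * b = b * a) :
    A ≤ Subgroup.center G := by
  have : Fintype A := Fintype.ofFinite A
  obtain ⟨m, hm⟩ := exists_inv_pow hk
  obtain ⟨τ, hτ⟩ := exists_const (Core.isIrr_isCharacter hχ)
    (GaloisBasic.isCharacter_pow hk (Core.isIrr_isCharacter hχ)) hirr A m
  -- the sum for `x = c`, `y = c ^ (-m)`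
  have key : ∀ c ∈ A, ∑ b : A, χ (b : G) * χ (b : G)⁻¹ = τ * (χ c * χ c⁻¹) := by
    intro c hc
    have h1 := hτ c (c ^ m)⁻¹
    have h2 : χ ((c ^ m)⁻¹ ^ k) = χ c⁻¹ := by
      rw [inv_pow, hm]
    rw [h2] at h1
    rw [← h1]
    refine Fintype.sum_equiv (Equiv.mulRight (⟨c, hc⟩ : A)) _ _ fun b => ?_
    have h3 : (((Equiv.mulRight (⟨c, hc⟩ : A)) b : A) : G) = (b : G) * c := rfl
    rw [h3]
    have h4 : ((b : G) * c)⁻¹ * c = (c⁻¹ * (b : G) * c)⁻¹ := by group
    have h5 : c⁻¹ * (b : G) * c = b := by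
      rw [mul_assoc, hA b b.2 c hc, inv_mul_cancel_left]
    have h6 : ((b : G) * c) ^ m * (c ^ m)⁻¹ = (b : G) ^ m := by
      rw [(show Commute (b : G) c from hA b b.2 c hc).mul_pow, mul_inv_cancel_right]
    rw [h4, h5, h6, hm, mul_comm]
  intro c hc
  have h1 := key c hc
  rw [key 1 (one_mem A), inv_one] at h1
  have hτ0 : τ ≠ 0 := by
    intro h0
    have h2 := key 1 (one_mem A)
    rw [h0, zero_mul] at h2
    have h3 : ((∑ b : A, Complex.normSq (χ (b : G)) : ℝ) : ℂ) = 0 := by
      rw [← h2, Complex.ofReal_sum]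
      exact Finset.sum_congr rfl fun b _ => (mul_inv_eq hχ b).symm
    have h4 : ∑ b : A, Complex.normSq (χ (b : G)) = 0 := by exact_mod_cast h3
    rw [Finset.sum_eq_zero_iff_of_nonneg (fun b _ => Complex.normSq_nonneg _)] at h4
    have h5 := h4 1 (Finset.mem_univ _)
    rw [Complex.normSq_eq_zero, OneMemClass.coe_one] at h5
    exact Core.isIrr_apply_one_ne_zero hχ h5
  exact mem_center_of_normSq hχ hfaith (mul_left_cancel₀ hτ0 h1).symm

include hχ hfaith in
/-- A faithful irreducible character vanishes at `a` if a commutator of `a` is central and not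
trivial. -/
theorem apply_eq_zero {a f : G} (h : a⁻¹ * (f * a * f⁻¹) ∈ Subgroup.center G)
    (h1 : f * a * f⁻¹ ≠ a) : χ a = 0 := by
  obtain ⟨n, ρ, hρ, rfl⟩ := hχ
  set z := a⁻¹ * (f * a * f⁻¹) with hz
  have hcomm : ∀ g, ρ z * ρ g = ρ g * ρ z := by
    intro g
    rw [← map_mul, ← map_mul, (Subgroup.mem_center_iff.1 h g)]
  obtain ⟨c, hc⟩ := Central.exists_smul_of_comm ρ hρ (ρ z) hcomm
  have h2 : ρ.character a = c * ρ.character a := by
    have h3 : ρ.character (a * z) = ρ.character a := by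
      rw [hz, mul_inv_cancel_left]
      exact Core.isIrr_isClassFunction (Core.isIrrCharacter_of_rep ρ hρ) a f
    have h4 : ρ.character (a * z) = c * ρ.character a := by
      show LinearMap.trace ℂ _ (ρ (a * z)) = c * LinearMap.trace ℂ _ (ρ a)
      rw [map_mul, hc, mul_smul_comm, mul_one, map_smul, smul_eq_mul]
    rw [← h4, h3]
  have h3 : c ≠ 1 := by
    rintro rfl
    have h4 : z = 1 := by
      apply hfaith
      rw [Representation.char_one]
      refine (Values.character_eq_finrank_iff ρ _).2 ?_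
      rw [hc, one_smul]
      rfl
    rw [hz, inv_mul_eq_one] at h4
    exact h1 h4.symm
  have h4 : (1 - c) * ρ.character a = 0 := by linear_combination h2
  rcases mul_eq_zero.1 h4 with h5 | h5
  · exact absurd (sub_eq_zero.1 h5).symm h3
  · exact h5

include hχ hfaith hk hirr in
theorem le_center_of_nilpotent (F : Subgroup G) [F.Normal] (hF : Group.IsNilpotent F) :
    F ≤ Subgroup.center G := by
  classical
  -- the centre of `F`
  have hZ : (Subgroup.center F).map F.subtype ≤ Subgroup.center G := by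
    refine abelian_le_center hχ hfaith hk hirr _ ?_
    rintro _ ⟨a, ha, rfl⟩ _ ⟨b, hb, rfl⟩
    exact congrArg Subtype.val (Subgroup.mem_center_iff.1 hb a)
  by_cases htop : Subgroup.center F = ⊤
  · intro f hf
    apply hZ
    rw [htop]
    exact ⟨⟨f, hf⟩, Subgroup.mem_top _, rfl⟩
  exfalso
  obtain ⟨c, hc2, hc1⟩ : ∃ c : F, c ∈ Subgroup.upperCentralSeries F 2 ∧
      c ∉ Subgroup.upperCentralSeries F 1 := by
    by_contra hcon
    push Not at hcon
    have h12 : Subgroup.upperCentralSeries F 1 = Subgroup.upperCentralSeries F 2 :=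
      le_antisymm (Subgroup.upperCentralSeries_mono F (by norm_num)) hcon
    have hall : ∀ i, Subgroup.upperCentralSeries F (i + 1) = Subgroup.upperCentralSeries F 1 := by
      intro i
      induction i with
      | zero => rfl
      | succ i ih =>
        ext y
        rw [Subgroup.mem_upperCentralSeries_succ_iff, h12,
          Subgroup.mem_upperCentralSeries_succ_iff, ih]
    obtain ⟨n, hn⟩ := hF.nilpotent'
    apply htop
    rw [← Subgroup.upperCentralSeries_one, ← hall n, eq_top_iff, ← hn]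
    exact Subgroup.upperCentralSeries_mono F (Nat.le_succ n)
  rw [Subgroup.upperCentralSeries_one] at hc1
  set N : Subgroup G := (Subgroup.upperCentralSeries F 2).map F.subtype with hN
  have hNn : N.Normal := inferInstance
  have : Fintype N := Fintype.ofFinite N
  -- `χ` vanishes on `N` outside the centre of `G`
  have hvan : ∀ a ∈ N, a ∉ Subgroup.center G → χ a = 0 := by
    rintro _ ⟨a, ha, rfl⟩ hac
    have ha1 : a ∉ Subgroup.center F := fun h => hac (hZ ⟨a, h, rfl⟩)
    rw [Subgroup.mem_center_iff] at ha1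
    push Not at ha1
    obtain ⟨f, hf⟩ := ha1
    have h2 := Subgroup.mem_upperCentralSeries_succ_iff.1 ha f
    rw [Subgroup.upperCentralSeries_one] at h2
    refine apply_eq_zero hχ hfaith (a := (a : G)) (f := f) ?_ ?_
    · have h3 : a⁻¹ * (f * a * f⁻¹) ∈ Subgroup.center F := by
        have h4 : a * f * a⁻¹ * f⁻¹ ∈ Subgroup.center F := by
          simpa [commutatorElement_def] using h2
        have h5 := (inferInstance : (Subgroup.center F).Normal).conj_mem _ (inv_mem h4) a⁻¹
        have h6 : a⁻¹ * (a * f * a⁻¹ * f⁻¹)⁻¹ * a⁻¹⁻¹ = a⁻¹ * (f * a * f⁻¹) := by group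
        rwa [h6] at h5
      exact hZ ⟨_, h3, rfl⟩
    · intro h3
      apply hf
      have h4 : f * a * f⁻¹ = a := Subtype.ext h3
      calc f * a = f * a * f⁻¹ * f := by group
        _ = a * f := by rw [h4]
  have hcN : (c : G) ∈ N := ⟨c, hc2, rfl⟩
  have hcZ : (c : G) ∉ Subgroup.center G := by
    intro h
    apply hc1
    rw [Subgroup.mem_center_iff]
    intro g
    exact Subtype.ext (Subgroup.mem_center_iff.1 h g)
  obtain ⟨m, hm⟩ := exists_inv_pow hk
  obtain ⟨τ, hτ⟩ := exists_const (Core.isIrr_isCharacter hχ)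
    (GaloisBasic.isCharacter_pow hk (Core.isIrr_isCharacter hχ)) hirr N m
  have h1 := hτ c ((c : G) ^ m)⁻¹
  rw [hvan c hcN hcZ, zero_mul, mul_zero] at h1
  have h2 : ∀ a : N, χ ((a : G)⁻¹ * c) * χ (((a : G) ^ m * ((c : G) ^ m)⁻¹) ^ k)
      = ((Complex.normSq (χ ((a : G)⁻¹ * c)) : ℝ) : ℂ) := by
    intro a
    by_cases hz : (a : G)⁻¹ * c ∈ Subgroup.center G
    · have h3 : (c : G) = a * ((a : G)⁻¹ * c) := by group
      have hcomm : Commute (a : G) ((a : G)⁻¹ * c) := Subgroup.mem_center_iff.1 hz a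
      have h4 : (c : G) ^ m = (a : G) ^ m * ((a : G)⁻¹ * c) ^ m := by
        conv_lhs => rw [h3]
        exact hcomm.mul_pow m
      have h5 : (a : G) ^ m * ((c : G) ^ m)⁻¹ = (((a : G)⁻¹ * c) ^ m)⁻¹ := by
        have hcomm' : Commute ((a : G) ^ m) (((a : G)⁻¹ * c) ^ m) := hcomm.pow_pow m m
        rw [h4, mul_inv_rev, ← mul_assoc, (hcomm'.inv_right).eq, mul_assoc, mul_inv_cancel,
          mul_one]
      rw [h5, inv_pow, hm, mul_inv_eq hχ]
    · rw [hvan _ (mul_mem (inv_mem a.2) hcN) hz, zero_mul, map_zero, Complex.ofReal_zero]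
  rw [Finset.sum_congr rfl fun a _ => h2 a] at h1
  have h3 : ∑ a : N, Complex.normSq (χ ((a : G)⁻¹ * c)) = 0 := by
    have h4 : ((∑ a : N, Complex.normSq (χ ((a : G)⁻¹ * c)) : ℝ) : ℂ) = 0 := by
      rw [← h1, Complex.ofReal_sum]
    exact_mod_cast h4
  rw [Finset.sum_eq_zero_iff_of_nonneg (fun b _ => Complex.normSq_nonneg _)] at h3
  have h5 := h3 ⟨c, hcN⟩ (Finset.mem_univ _)
  rw [Complex.normSq_eq_zero] at h5
  rw [inv_mul_cancel] at h5
  exact Core.isIrr_apply_one_ne_zero hχ h5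

end Main

end Cfsg.Agent.H686.GalProd
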