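import Cfsg.Agent.H686.CharKit
import Cfsg.Agent.CharactersDeep.Extraspecial
import Cfsg.Agent.CharactersDeep.AbelianQuotient
import Cfsg.Agent.Transfer.PGroupNormal
import Cfsg.Agent.S1522
import Cfsg.Agent.CharactersDeep.QuatSylow
import Cfsg.Agent.H686.GalProd

/-!
# `p`-groups whose nonlinear irreducible characters of equal degree are Galois conjugate
-/

set_option autoImplicit false
open Cfsg Cfsg.Agent.Characters Cfsg.Agent.H686.CharKit
open Cfsg.Agent.CharactersDeep
open scoped ComplexConjugate commutatorElement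

namespace Cfsg.Agent.H686.PGal

universe u

variable {P : Type u} [Group P]

/-- Nonlinear irreducible characters of the same degree are Galois conjugate. -/
def GalProp (P : Type u) [Group P] : Prop :=
  ∀ χ ψ : IrrCharacter P, charDegree (χ : P → ℂ) ≠ 1 →
    charDegree (χ : P → ℂ) = charDegree (ψ : P → ℂ) →
    ∃ k : ℕ, Nat.Coprime k (Nat.card P) ∧ ∀ g : P, (ψ : P → ℂ) g = (χ : P → ℂ) (g ^ k)

theorem charDegree_infl [Finite P] (N : Subgroup P) [N.Normal] (ψ : IrrCharacter (P ⧸ N)) :
    charDegree (infl N ψ : P → ℂ) = charDegree (ψ : P ⧸ N → ℂ) := by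
  have h1 := charDegree_irr (infl N ψ)
  have h2 := charDegree_irr ψ
  rw [infl_apply] at h1
  have h3 : ((1 : P) : P ⧸ N) = 1 := rfl
  rw [h3, ← h2] at h1
  exact_mod_cast h1

theorem GalProp.quotient [Finite P] (h : GalProp P) (N : Subgroup P) [N.Normal] :
    GalProp (P ⧸ N) := by
  intro χ ψ hχ hχψ
  obtain ⟨k, hk, hk2⟩ := h (infl N χ) (infl N ψ) (by rwa [charDegree_infl])
    (by rwa [charDegree_infl, charDegree_infl])
  refine ⟨k, Nat.Coprime.coprime_dvd_right (Subgroup.card_quotient_dvd_card N) hk, ?_⟩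
  intro x
  obtain ⟨g, rfl⟩ := QuotientGroup.mk_surjective x
  have := hk2 g
  rw [infl_apply, infl_apply] at this
  exact this

/-- Galois conjugate characters have the same kernel. -/
theorem chKer_eq_of_conj [Finite P] {χ ψ : IrrCharacter P} {k : ℕ} (hk : Nat.Coprime k (Nat.card P))
    (h : ∀ g : P, (ψ : P → ℂ) g = (χ : P → ℂ) (g ^ k)) : chKer ψ = chKer χ := by
  obtain ⟨m, hm⟩ := GalProd.exists_inv_pow hk
  have h1 : (ψ : P → ℂ) 1 = (χ : P → ℂ) 1 := by rw [h, one_pow]
  ext g
  rw [mem_chKer, h g, h1, ← mem_chKer]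
  constructor
  · intro hg
    have h2 : (g ^ k) ^ m = g := by rw [← pow_mul, mul_comm, pow_mul]; exact hm g
    rw [← h2]
    exact Subgroup.pow_mem _ hg m
  · intro hg
    exact Subgroup.pow_mem _ hg k

/-- The commutator subgroup is in the kernel of linear characters. -/
theorem commutator_le_chKer [Finite P] {χ : IrrCharacter P} (h : (χ : P → ℂ) 1 = 1) :
    commutator P ≤ chKer χ := by
  obtain ⟨f, hf⟩ := Characters.Linear.exists_hom_of_isIrrCharacter χ.2 h
  rw [commutator_def, Subgroup.commutator_le]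
  intro a _ b _
  rw [mem_chKer, hf]
  simp only [map_one]
  have : f ⁅a, b⁆ = 1 := by
    rw [map_commutatorElement]
    exact commutatorElement_eq_one_iff_mul_comm.2 (mul_comm _ _)
  rw [this]

/-- The product of a linear character and an irreducible character. -/
def linMul [Finite P] (χ ψ : IrrCharacter P) (h : (χ : P → ℂ) 1 = 1) : IrrCharacter P :=
  ⟨(χ : P → ℂ) * (ψ : P → ℂ), by
    have : Fintype P := Fintype.ofFinite P
    obtain ⟨f, hf⟩ := Characters.Linear.exists_hom_of_isIrrCharacter χ.2 h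
    rw [hf]
    exact AbelianQuotient.isIrr_linear_mul f ψ.2⟩

/-- There is a nonlinear irreducible character of a nonabelian group. -/
theorem exists_nonlinear [Finite P] (hna : commutator P ≠ ⊥) :
    ∃ χ : IrrCharacter P, (χ : P → ℂ) 1 ≠ 1 := by
  by_contra hc
  push Not at hc
  apply hna
  rw [eq_bot_iff]
  intro g hg
  refine mem_of_forall_chKer ⊥ fun χ _ => ?_
  exact commutator_le_chKer (hc χ) hg

/-- The kernels of the nonlinear characters of a nonabelian group intersect trivially. -/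
theorem eq_one_of_forall_nonlinear [Finite P] (hna : commutator P ≠ ⊥) {g : P}
    (h : ∀ χ : IrrCharacter P, (χ : P → ℂ) 1 ≠ 1 → g ∈ chKer χ) : g = 1 := by
  obtain ⟨χ, hχ⟩ := exists_nonlinear hna
  have h2 : g ∈ (⊥ : Subgroup P) := by
    refine mem_of_forall_chKer ⊥ fun ψ _ => ?_
    by_cases hψ : (ψ : P → ℂ) 1 = 1
    · have h3 := h (linMul ψ χ hψ) (by
        show (ψ : P → ℂ) 1 * (χ : P → ℂ) 1 ≠ 1
        rwa [hψ, one_mul])
      rw [mem_chKer] at h3 ⊢
      have h4 : (ψ : P → ℂ) g * (χ : P → ℂ) g = (ψ : P → ℂ) 1 * (χ : P → ℂ) 1 := h3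
      have h5 : (χ : P → ℂ) g = (χ : P → ℂ) 1 := h χ hχ
      rw [h5] at h4
      exact mul_right_cancel₀ (Core.isIrr_apply_one_ne_zero χ.2) h4
    · exact h ψ hψ
  exact Subgroup.mem_bot.1 h2


section Small

variable [Finite P] {p : ℕ} [Fact p.Prime]

theorem commutator_le_center (hP : IsPGroup p P) (hc : Nat.card (commutator P) = p) :
    commutator P ≤ Subgroup.center P := by
  have hp : p.Prime := Fact.out
  have hne : commutator P ≠ ⊥ := by
    intro h
    rw [h, Subgroup.card_bot] at hc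
    exact hp.one_lt.ne hc
  obtain ⟨z, hz, hzc, hzo⟩ :=
    Transfer.PGroupNormal.exists_mem_inf_center_orderOf hP (commutator P) hne
  intro x hx
  have h1 : (⟨x, hx⟩ : commutator P) ∈ Subgroup.zpowers (⟨z, hz⟩ : commutator P) := by
    refine mem_zpowers_of_prime_card hc ?_
    intro h
    have : z = 1 := congrArg Subtype.val h
    rw [this, orderOf_one] at hzo
    exact hp.one_lt.ne hzo
  obtain ⟨k, hk⟩ := Subgroup.mem_zpowers_iff.1 h1
  have h2 : z ^ k = x := congrArg Subtype.val hk
  rw [← h2]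
  exact Subgroup.zpow_mem _ hzc k

omit [Finite P] in
theorem commutator_ne_bot (hc : Nat.card (commutator P) = p) : commutator P ≠ ⊥ := by
  have hp : p.Prime := Fact.out
  intro h
  rw [h, Subgroup.card_bot] at hc
  exact hp.one_lt.ne hc

/-- Nonlinear characters when `|P'| = p`: structure. -/
theorem exists_central (hP : IsPGroup p P) (hc : Nat.card (commutator P) = p)
    (χ : IrrCharacter P) (hχ : (χ : P → ℂ) 1 ≠ 1) :
    ∃ c : Subgroup.center P →* ℂˣ, (∀ (x : P) (z : Subgroup.center P),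
      (χ : P → ℂ) (x * z) = (χ : P → ℂ) x * (c z : ℂ)) ∧
      (∀ x, x ∉ Subgroup.center P → (χ : P → ℂ) x = 0) ∧
      (∀ z : Subgroup.center P, (z : P) ∈ commutator P → z ≠ 1 → c z ≠ 1) := by
  obtain ⟨c, hc1, hc2⟩ := Extraspecial.exists_central_hom χ.2
  have hle := commutator_le_center hP hc
  have hcne : ∀ z : Subgroup.center P, (z : P) ∈ commutator P → z ≠ 1 → c z ≠ 1 := by
    intro z hz hz1 hcz
    apply hχ
    -- `c` is trivial on the commutator subgroup
    have h1 : ∀ w ∈ commutator P, (χ : P → ℂ) w = (χ : P → ℂ) 1 := by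
      intro w hw
      have h2 : (⟨w, hw⟩ : commutator P) ∈ Subgroup.zpowers (⟨z, hz⟩ : commutator P) := by
        refine mem_zpowers_of_prime_card hc ?_
        intro h
        exact hz1 (Subtype.ext (congrArg (Subtype.val : commutator P → P) h))
      obtain ⟨k, hk⟩ := Subgroup.mem_zpowers_iff.1 h2
      have h3 : (z : P) ^ k = w := congrArg Subtype.val hk
      have h4 := hc1 1 (z ^ k)
      rw [map_zpow, hcz, one_zpow, one_mul, Units.val_one, mul_one, Subgroup.coe_zpow, h3] at h4
      exact h4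
    obtain ⟨ψ, hψ⟩ := exists_infl (commutator P) χ h1
    rw [← hψ]
    have h5 : ∀ a b : P ⧸ commutator P, a * b = b * a := by
      intro a b
      exact (inferInstance : CommGroup (Abelianization P)).mul_comm a b
    obtain ⟨n, ρ, hρ, hρ2⟩ := ψ.2
    have h6 : Module.finrank ℂ (Fin n → ℂ) = 1 := by
      apply Extraspecial.finrank_eq_one_of_commute ρ hρ
      intro g k
      have h7 := congrArg ρ (h5 g k)
      rw [map_mul, map_mul] at h7
      exact h7
    rw [infl_apply]
    have h8 : ((1 : P) : P ⧸ commutator P) = 1 := rfl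
    rw [h8, ← hρ2, Representation.char_one, h6, Nat.cast_one]
  refine ⟨c, hc1, ?_, hcne⟩
  intro x hx
  rw [Subgroup.mem_center_iff] at hx
  push Not at hx
  obtain ⟨g, hg⟩ := hx
  set z := x⁻¹ * (g * x * g⁻¹) with hz
  have hzc : z ∈ commutator P := by
    have : z = ⁅x⁻¹, g⁆ := by rw [hz, commutatorElement_def]; group
    rw [this]
    exact Subgroup.commutator_mem_commutator (Subgroup.mem_top _) (Subgroup.mem_top _)
  have hz1 : z ≠ 1 := by
    intro h1
    apply hg
    rw [hz, inv_mul_eq_one] at h1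
    exact mul_inv_eq_iff_eq_mul.1 h1.symm
  have h3 : g * x * g⁻¹ = x * z := by rw [hz]; group
  have h4 := Core.isCharacter_isClassFunction (Core.isIrr_isCharacter χ.2) x g
  rw [h3, hc1 x ⟨z, hle hzc⟩] at h4
  have h5 : (χ : P → ℂ) x * ((c ⟨z, hle hzc⟩ : ℂ) - 1) = 0 := by rw [mul_sub, h4]; ring
  rcases mul_eq_zero.1 h5 with h6 | h6
  · exact h6
  · exact absurd (Units.ext (sub_eq_zero.1 h6)) (hcne ⟨z, hle hzc⟩ hzc
      (fun h => hz1 (congrArg Subtype.val h)))

/-- The degree of the nonlinear characters when `|P'| = p`. -/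
theorem degree_sq (hP : IsPGroup p P) (hc : Nat.card (commutator P) = p)
    (χ : IrrCharacter P) (hχ : (χ : P → ℂ) 1 ≠ 1) :
    charDegree (χ : P → ℂ) ^ 2 * Nat.card (Subgroup.center P) = Nat.card P := by
  have : Fintype P := Fintype.ofFinite P
  obtain ⟨c, hc1, hc2, -⟩ := exists_central hP hc χ hχ
  have h1 := Extraspecial.classInner_of_center (f := (χ : P → ℂ)) ((χ : P → ℂ) 1) c hc2
    (fun z => by have := hc1 1 z; rwa [one_mul] at this)
  rw [Core.classInner_irr_self χ.2, ← charDegree_irr χ, Complex.conj_natCast] at h1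
  have h2 : (Nat.card P : ℂ) ≠ 0 := Nat.cast_ne_zero.2 Nat.card_pos.ne'
  have h3 : (charDegree (χ : P → ℂ) : ℂ) ^ 2 * (Nat.card (Subgroup.center P) : ℂ)
      = (Nat.card P : ℂ) := by
    field_simp at h1
    rw [h1, mul_comm]
  exact_mod_cast h3


/-- If the centre is cyclic, a linear character of the centre nontrivial on `P'` is faithful. -/
theorem central_injective (hP : IsPGroup p P) (hc : Nat.card (commutator P) = p)
    (hZ : IsCyclic (Subgroup.center P)) (c : Subgroup.center P →* ℂˣ)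
    (hcne : ∀ z : Subgroup.center P, (z : P) ∈ commutator P → z ≠ 1 → c z ≠ 1) :
    Function.Injective c := by
  have hp : p.Prime := Fact.out
  have hle := commutator_le_center hP hc
  rw [injective_iff_map_eq_one]
  intro z hz
  by_contra hz1
  have h1 : commutator P ≤ Subgroup.zpowers (z : P) := by
    refine QuatSylow.le_of_card_dvd_of_le_cyclic hZ hle ?_ ?_
    · rw [Subgroup.zpowers_le]; exact z.2
    · rw [hc, Nat.card_zpowers]
      obtain ⟨j, hj⟩ := IsPGroup.iff_orderOf.1 hP (z : P)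
      rw [hj]
      refine dvd_pow_self p ?_
      rintro rfl
      rw [pow_zero, orderOf_eq_one_iff] at hj
      exact hz1 (Subtype.ext hj)
  have hne := commutator_ne_bot (P := P) hc
  rw [ne_eq, Subgroup.eq_bot_iff_forall] at hne
  push Not at hne
  obtain ⟨w, hw, hw1⟩ := hne
  obtain ⟨k, hk⟩ := Subgroup.mem_zpowers_iff.1 (h1 hw)
  refine hcne (z ^ k) (by rw [Subgroup.coe_zpow, hk]; exact hw) ?_ ?_
  · intro h
    apply hw1
    rw [← hk, ← Subgroup.coe_zpow, h]
    rfl
  · rw [map_zpow, hz, one_zpow]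

theorem exists_pow_hom {Z : Type*} [Group Z] [Finite Z] (hZ : IsCyclic Z) (c c' : Z →* ℂˣ)
    (hc : Function.Injective c) (hc' : Function.Injective c') :
    ∃ i : ℕ, i.Coprime (Nat.card Z) ∧ ∀ z, c' z = c z ^ i := by
  obtain ⟨t, ht⟩ := IsCyclic.exists_generator (α := Z)
  have hn : orderOf t = Nat.card Z := orderOf_eq_card_of_forall_mem_zpowers ht
  have h1 : IsPrimitiveRoot (c t) (Nat.card Z) := by
    rw [← hn, ← orderOf_injective c hc t]
    exact IsPrimitiveRoot.orderOf _
  have h2 : IsPrimitiveRoot (c' t) (Nat.card Z) := by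
    rw [← hn, ← orderOf_injective c' hc' t]
    exact IsPrimitiveRoot.orderOf _
  have h1' : IsPrimitiveRoot (c t : ℂ) (Nat.card Z) := IsPrimitiveRoot.coe_units_iff.2 h1
  have h2' : IsPrimitiveRoot (c' t : ℂ) (Nat.card Z) := IsPrimitiveRoot.coe_units_iff.2 h2
  have : NeZero (Nat.card Z) := ⟨Nat.card_pos.ne'⟩
  obtain ⟨i, -, hi, hi2⟩ := (h1'.isPrimitiveRoot_iff).1 h2'
  refine ⟨i, hi, fun z => ?_⟩
  obtain ⟨k, hk⟩ := Subgroup.mem_zpowers_iff.1 (ht z)
  have h3 : c' t = c t ^ i := Units.ext (by rw [Units.val_pow_eq_pow_val]; exact hi2.symm)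
  rw [← hk, map_zpow, map_zpow, h3, ← zpow_natCast, ← zpow_natCast, ← zpow_mul, ← zpow_mul,
    mul_comm]

/-- If `|P'| = p` and the centre is cyclic, the nonlinear characters are Galois conjugate. -/
theorem galProp_of (hP : IsPGroup p P) (hc : Nat.card (commutator P) = p)
    (hZ : IsCyclic (Subgroup.center P)) : GalProp P := by
  have hp : p.Prime := Fact.out
  intro χ ψ hχ hχψ
  have hχ1 : (χ : P → ℂ) 1 ≠ 1 := fun h => hχ ((charDegree_eq_one_iff χ).2 h)
  have hψ1 : (ψ : P → ℂ) 1 ≠ 1 := fun h => hχ (hχψ ▸ (charDegree_eq_one_iff ψ).2 h)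
  obtain ⟨c, hc1, hc2, hc3⟩ := exists_central hP hc χ hχ1
  obtain ⟨c', hc1', hc2', hc3'⟩ := exists_central hP hc ψ hψ1
  obtain ⟨i, hi, hi2⟩ := exists_pow_hom hZ c c' (central_injective hP hc hZ c hc3)
    (central_injective hP hc hZ c' hc3')
  have hcop : Nat.Coprime i (Nat.card P) := by
    obtain ⟨n, hn⟩ := IsPGroup.iff_card.1 hP
    rw [hn]
    apply Nat.Coprime.pow_right
    refine Nat.Coprime.coprime_dvd_right ?_ hi
    rw [← hc]
    exact Subgroup.card_dvd_of_le (commutator_le_center hP hc)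
  refine ⟨i, hcop, fun g => ?_⟩
  obtain ⟨m, hm⟩ := GalProd.exists_inv_pow hcop
  by_cases hg : g ∈ Subgroup.center P
  · have h1 := hc1 1 (⟨g, hg⟩ ^ i)
    have h2 := hc1' 1 ⟨g, hg⟩
    rw [one_mul, Subgroup.coe_pow] at h1
    rw [one_mul] at h2
    rw [h2, hi2, ← map_pow]
    have h3 : (χ : P → ℂ) 1 = (ψ : P → ℂ) 1 := by
      rw [← charDegree_irr, ← charDegree_irr, hχψ]
    rw [← h3]
    exact h1.symm
  · rw [hc2' g hg, hc2]
    intro h
    apply hg
    have h4 : (g ^ i) ^ m = g := by rw [← pow_mul, mul_comm, pow_mul]; exact hm g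
    rw [← h4]
    exact Subgroup.pow_mem _ h m

/-- If `|P'| = p` and the Galois property holds, then the centre is cyclic. -/
theorem isCyclic_center (hP : IsPGroup p P) (hc : Nat.card (commutator P) = p)
    (h : GalProp P) : IsCyclic (Subgroup.center P) := by
  have hne := commutator_ne_bot (P := P) hc
  obtain ⟨χ, hχ⟩ := exists_nonlinear hne
  have hχ1 : charDegree (χ : P → ℂ) ≠ 1 := fun h => hχ ((charDegree_eq_one_iff χ).1 h)
  have hker : ∀ g, g ∈ chKer χ → g = 1 := by
    intro g hg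
    refine eq_one_of_forall_nonlinear hne fun ψ hψ => ?_
    have h1 := degree_sq hP hc χ hχ
    have h2 := degree_sq hP hc ψ hψ
    have h3 : charDegree (χ : P → ℂ) = charDegree (ψ : P → ℂ) := by
      have h4 : charDegree (χ : P → ℂ) ^ 2 = charDegree (ψ : P → ℂ) ^ 2 :=
        Nat.eq_of_mul_eq_mul_right Nat.card_pos (h1.trans h2.symm)
      exact Nat.pow_left_injective (n := 2) two_ne_zero h4
    obtain ⟨k, hk, hk2⟩ := h χ ψ hχ1 h3
    rw [chKer_eq_of_conj hk hk2]
    exact hg
  obtain ⟨c, hc1, -, -⟩ := exists_central hP hc χ hχ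
  let f : Subgroup.center P →* ℂ := (Units.coeHom ℂ).comp c
  refine isCyclic_of_injective_ringHom f ?_
  have hinj : Function.Injective c := by
    rw [injective_iff_map_eq_one]
    intro z hz
    apply Subtype.ext
    apply hker
    rw [mem_chKer]
    have := hc1 1 z
    rwa [one_mul, hz, Units.val_one, mul_one] at this
  exact Units.val_injective.comp hinj

end Small

end Cfsg.Agent.H686.PGal
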