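import Cfsg.Agent.H686.SqSmall
import Cfsg.Agent.H396.CommTab4
import Cfsg.Agent.H396.Der
import Cfsg.Agent.H436.Ppd
import Cfsg.Agent.LieClassical.OrthFinite
import Cfsg.Agent.LieClassical.OrthForms
import Cfsg.Agent.LieClassical.QuadCount
import Cfsg.Agent.S0289
import Cfsg.Agent.S0293

/-!
# Square-free index in `PΩ⁺_{2m}(q)` (helper686)
-/

set_option autoImplicit false
set_option linter.unusedSectionVars false

namespace Cfsg.Agent.H686.SqPlus

open MulAction QuadraticMap Cfsg.Agent.H396 Cfsg.Agent.H686.SqGen Cfsg.Agent.H686.SqSmall Cfsg.Agent.H436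
  Cfsg.Agent.LieClassical.OrthCore Cfsg.Agent.LieClassical.OrthTrans

theorem mod_pow {q e u a b : ℕ} (h : Prim q e u) (hab : a ≤ b) (hmod : q ^ b ≡ q ^ a [MOD u]) : e ∣ b - a := by
  rcases Nat.eq_zero_or_pos q with rfl | hq
  · exact absurd (dvd_zero u) h.not_dvd
  rw [← h.dvd_iff]
  have h1 : u ∣ q ^ b - q ^ a := (Nat.modEq_iff_dvd' (Nat.pow_le_pow_right hq hab)).1 hmod.symm
  have h2 : q ^ b - q ^ a = q ^ a * (q ^ (b - a) - 1) := by
    rw [Nat.mul_sub, mul_one, ← pow_add, Nat.add_sub_cancel' hab]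
  rw [h2] at h1
  exact (h.prime.dvd_mul.1 h1).resolve_left (h.not_dvd_pow a)

section plane

variable {F V : Type*} [Field F] [Finite F] [AddCommGroup V] [Module F V] [Finite V] {Q : QuadraticForm F V}

/-- singular vectors of a plane with a nonzero singular vector -/
theorem card_plane {C : Submodule F V} (hC : Nat.card C = Nat.card F ^ 2) {e : V} (he : e ∈ C) (he0 : e ≠ 0)
    (hQe : Q e = 0) : Nat.card {v : V | v ∈ C ∧ Q v = 0} = Nat.card F ^ 2 ∨
      Nat.card {v : V | v ∈ C ∧ Q v = 0} = Nat.card F ∨ Nat.card {v : V | v ∈ C ∧ Q v = 0} + 1 = 2 * Nat.card F := by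
  classical
  have hq1 : 1 < Nat.card F := Finite.one_lt_card
  -- a vector outside `F e`
  obtain ⟨f, hf, hfe⟩ : ∃ f ∈ C, ∀ a : F, f ≠ a • e := by
    by_contra hcon
    push Not at hcon
    have h1 : Nat.card C ≤ Nat.card F := by
      refine Nat.card_le_card_of_surjective (fun a : F => (⟨a • e, C.smul_mem a he⟩ : C)) ?_
      rintro ⟨v, hv⟩
      obtain ⟨a, ha⟩ := hcon v hv
      exact ⟨a, Subtype.ext ha.symm⟩
    rw [hC] at h1
    nlinarith
  set g : F × F → C := fun ab => ⟨ab.1 • e + ab.2 • f, C.add_mem (C.smul_mem _ he) (C.smul_mem _ hf)⟩ with hg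
  have hginj : Function.Injective g := by
    rintro ⟨a, b⟩ ⟨a', b'⟩ h
    have h1 : a • e + b • f = a' • e + b' • f := congrArg Subtype.val h
    have hb : b = b' := by
      by_contra hne
      have hne' : b - b' ≠ 0 := sub_ne_zero.2 hne
      apply hfe ((b - b')⁻¹ * (a' - a))
      have h2 : (b - b') • f = (a' - a) • e := by
        rw [sub_smul, sub_smul, sub_eq_sub_iff_add_eq_add, add_comm (b • f), h1]
      rw [mul_smul, ← h2, smul_smul, inv_mul_cancel₀ hne', one_smul]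
    subst hb
    have h3 : a • e = a' • e := add_right_cancel h1
    have ha : a = a' := by
      by_contra hne
      have h4 : (a - a') • e = 0 := by rw [sub_smul, h3, sub_self]
      rcases smul_eq_zero.1 h4 with h5 | h5
      · exact hne (sub_eq_zero.1 h5)
      · exact he0 h5
    rw [ha]
  have hgbij : Function.Bijective g :=
    (Nat.bijective_iff_injective_and_card g).2 ⟨hginj, by rw [Nat.card_prod, hC, pow_two]⟩
  set β := polar Q e f with hβ
  set γ := Q f with hγ
  have hQg : ∀ ab : F × F, Q (g ab : V) = ab.2 * (ab.1 * β + ab.2 * γ) := by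
    rintro ⟨a, b⟩
    show Q (a • e + b • f) = _
    rw [Q_add, QuadraticMap.map_smul, QuadraticMap.map_smul, hQe, polar_smul_left, polar_smul_right]
    simp only [smul_eq_mul]
    ring
  -- transfer the count
  have hcount : Nat.card {v : V | v ∈ C ∧ Q v = 0} = ({ab : F × F | ab.2 * (ab.1 * β + ab.2 * γ) = 0} : Set (F × F)).ncard := by
    rw [← Nat.card_coe_set_eq]
    refine Nat.card_congr (Equiv.symm (Equiv.ofBijective
      (fun ab => ⟨(g ab.1 : V), (g ab.1).2, by rw [hQg]; exact ab.2⟩) ⟨?_, ?_⟩))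
    · rintro ⟨ab, hab⟩ ⟨ab', hab'⟩ h
      have h1 := Subtype.ext_iff.1 h
      exact Subtype.ext (hginj (Subtype.ext h1))
    · rintro ⟨v, hv, hv0⟩
      obtain ⟨ab, hab⟩ := hgbij.2 ⟨v, hv⟩
      have h1 : (g ab : V) = v := congrArg Subtype.val hab
      refine ⟨⟨ab, ?_⟩, Subtype.ext h1⟩
      show ab.2 * (ab.1 * β + ab.2 * γ) = 0
      rw [← hQg, h1, hv0]
  rw [hcount]
  have hA : ({ab : F × F | ab.2 = 0} : Set (F × F)).ncard = Nat.card F := by
    rw [← Nat.card_coe_set_eq]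
    exact Nat.card_congr ⟨fun ab => ab.1.1, fun a => ⟨(a, 0), rfl⟩, fun ab => Subtype.ext (Prod.ext rfl ab.2.symm),
      fun _ => rfl⟩
  by_cases hβ0 : β = 0
  · by_cases hγ0 : γ = 0
    · left
      have h1 : ({ab : F × F | ab.2 * (ab.1 * β + ab.2 * γ) = 0} : Set (F × F)) = Set.univ := by
        ext ab
        simp [hβ0, hγ0]
      rw [h1, Set.ncard_univ, Nat.card_prod, pow_two]
    · right; left
      have h1 : ({ab : F × F | ab.2 * (ab.1 * β + ab.2 * γ) = 0} : Set (F × F)) = {ab : F × F | ab.2 = 0} := by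
        ext ab
        simp [hβ0, hγ0]
      rw [h1, hA]
  · right; right
    set A' : Set (F × F) := {ab | ab.1 * β + ab.2 * γ = 0} with hA'
    have h1 : ({ab : F × F | ab.2 * (ab.1 * β + ab.2 * γ) = 0} : Set (F × F)) = {ab : F × F | ab.2 = 0} ∪ A' := by
      ext ab
      simp [hA', mul_eq_zero]
    have hA'c : A'.ncard = Nat.card F := by
      rw [← Nat.card_coe_set_eq]
      refine Nat.card_congr ⟨fun ab => ab.1.2, fun b => ⟨(-(b * γ) * β⁻¹, b), ?_⟩, fun ab => ?_, fun _ => rfl⟩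
      · show -(b * γ) * β⁻¹ * β + b * γ = 0
        rw [mul_assoc, inv_mul_cancel₀ hβ0, mul_one, neg_add_cancel]
      · obtain ⟨⟨a, b⟩, hab⟩ := ab
        have hab' : a * β + b * γ = 0 := hab
        refine Subtype.ext (Prod.ext ?_ rfl)
        show -(b * γ) * β⁻¹ = a
        rw [← eq_neg_of_add_eq_zero_left hab', mul_assoc, mul_inv_cancel₀ hβ0, mul_one]
    have hinter : (({ab : F × F | ab.2 = 0} : Set (F × F)) ∩ A') = {(0, 0)} := by
      ext ⟨a, b⟩
      constructor
      · rintro ⟨hb, hab⟩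
        have hb' : b = 0 := hb
        have hab' : a * β + b * γ = 0 := hab
        rw [hb', zero_mul, add_zero] at hab'
        rw [Set.mem_singleton_iff, hb', (mul_eq_zero.1 hab').resolve_right hβ0]
      · intro h
        rw [Set.mem_singleton_iff, Prod.mk.injEq] at h
        obtain ⟨rfl, rfl⟩ := h
        exact ⟨rfl, show (0 : F) * β + 0 * γ = 0 by ring⟩
    have h2 := Set.ncard_union_add_ncard_inter ({ab : F × F | ab.2 = 0} : Set (F × F)) A'
    rw [hinter, Set.ncard_singleton, hA, hA'c] at h2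
    rw [h1, h2, two_mul]

end plane

section core

variable {F V : Type*} [Field F] [Finite F] [AddCommGroup V] [Module F V] [Finite V] {Q : QuadraticForm F V}

theorem frm (hQ : Nondeg Q) : Frm F ↥(E Q) (fun u v => polar Q u v) where
  add u v w := polar_add_left _ _ _ _
  smul c u w := by rw [polar_smul_left]; rfl
  refl u v h := by rw [polar_comm]; exact h
  sub_right u v w := polar_sub_right _ _ _ _
  inv g u v := polar_map (E_le_O g.2) u v
  nondeg u h := hQ u h

/-- orbits of `E Q` -/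
theorem card_orbit (hG : Good Q) {v : V} (hv : v ≠ 0) :
    Nat.card (orbit ↥(E Q) v) = Nat.card {w : V | w ≠ 0 ∧ Q w = Q v} := by
  have h1 : orbit ↥(E Q) v = {w : V | w ≠ 0 ∧ Q w = Q v} := by
    ext w
    constructor
    · rintro ⟨g, hg⟩
      have hg' : (g : V ≃ₗ[F] V) v = w := hg
      refine ⟨fun h => hv ?_, ?_⟩
      · rw [h] at hg'
        exact (g : V ≃ₗ[F] V).map_eq_zero_iff.1 hg'
      · rw [← hg']
        exact E_le_O g.2 v
    · rintro ⟨hw, hQw⟩
      obtain ⟨g, hg, hgv⟩ := hG.trans_norm hv hw hQw.symm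
      exact ⟨⟨g, hg⟩, hgv⟩
  rw [h1]

instance : Finite ↥(E Q) := by
  have : Finite (V ≃ₗ[F] V) := Finite.of_injective (fun g : V ≃ₗ[F] V => (g : V → V)) DFunLike.coe_injective
  infer_instance

/-- a subgroup of index prime to `p` fixes only singular vectors -/
theorem exists_sing (hG : Good Q) {p : ℕ} [hp : Fact p.Prime] [CharP F p]
    (hc : ∀ c : F, c ≠ 0 → p ∣ Nat.card {v : V | Q v = c}) {M : Subgroup ↥(E Q)} (hM : ¬ p ∣ M.index)
    {R : Submodule F V} (hR : R ≠ ⊥) (hinv : ∀ m ∈ M, ∀ v ∈ R, m • v ∈ R) : ∃ v ∈ R, v ≠ 0 ∧ Q v = 0 := by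
  obtain ⟨S⟩ : Nonempty (Sylow p M) := inferInstance
  set S' : Subgroup ↥(E Q) := (S : Subgroup M).map M.subtype with hS'
  have hSp : IsPGroup p S' := S.isPGroup'.map _
  have hSM : S' ≤ M := Subgroup.map_subtype_le _
  have hSi : ¬ p ∣ S'.index := by
    have h1 : S'.index = (S : Subgroup M).index * M.index := Subgroup.index_map_subtype (S : Subgroup M)
    rw [h1, hp.out.dvd_mul]
    rintro (h | h)
    · exact S.not_dvd_index h
    · exact hM h
  obtain ⟨v, hv, hv0, hvS⟩ := exists_fixed hSp hR (fun g hg w hw => hinv g (hSM hg) w hw)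
  refine ⟨v, hv, hv0, ?_⟩
  by_contra hQv
  apply hSi
  have h1 : S' ≤ stabilizer ↥(E Q) v := fun g hg => hvS g hg
  have h2 : (stabilizer ↥(E Q) v).index = Nat.card {w : V | Q w = Q v} := by
    rw [index_stabilizer, ← Nat.card_coe_set_eq, card_orbit hG hv0]
    congr 1
    refine congrArg _ ?_
    ext w
    refine ⟨fun h => h.2, fun h => ⟨fun h0 => ?_, h⟩⟩
    have h' : Q w = Q v := h
    rw [h0, QuadraticMap.map_zero] at h'
    exact hQv h'.symm
  have h3 := Subgroup.index_dvd_of_le h1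
  rw [h2] at h3
  exact (hc _ hQv).trans h3

theorem core_u {q m u : ℕ} (hq : Nat.card F = q) (hV : Nat.card V = q ^ (2 * m)) (hm : 4 ≤ m)
    (h0 : Nat.card {v : V | Q v = 0} = q ^ (2 * m - 1) + q ^ m - q ^ (m - 1)) (hu : Prim q (2 * m - 2) u)
    {M : Subgroup ↥(E Q)} {R : Submodule F V} (hinv : ∀ g ∈ M, ∀ v ∈ R, g • v ∈ R)
    (hRle : Nat.card R ^ 2 ≤ Nat.card V) {e : V} (he : e ∈ R) (he0 : e ≠ 0) (hQe : Q e = 0)
    (hdiv : u ∣ Nat.card M) : False := by
  have : Fact u.Prime := ⟨hu.prime⟩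
  have hq1 : 1 < q := hq ▸ Finite.one_lt_card
  obtain ⟨x, hx⟩ := exists_prime_orderOf_dvd_card' (G := M) u hdiv
  have hx' : orderOf (x : ↥(E Q)) = u := by rw [Subgroup.orderOf_coe]; exact hx
  have hx1 : (x : ↥(E Q)) ≠ 1 := by
    intro h
    rw [h, orderOf_one] at hx'
    exact hu.prime.one_lt.ne hx'
  -- the fixed space has dimension 2
  have hctop : Nat.card (⊤ : Submodule F V) = q ^ (2 * m) := by
    rw [← hV]; exact Nat.card_congr (Equiv.Set.univ _)
  have hc2 := card_cfix_modEq (F := F) hx' (⊤ : Submodule F V) (fun _ _ => trivial)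
  rw [top_inf_eq, hctop] at hc2
  obtain ⟨c, hc⟩ := exists_card hq (cfix F (x : ↥(E Q)) : Submodule F V)
  have hcle : Nat.card (cfix F (x : ↥(E Q)) : Submodule F V) < q ^ (2 * m) := hV ▸ card_lt_of_ne_top (cfix_ne_top hx1)
  rw [hc] at hc2 hcle
  have hclt : c < 2 * m := (Nat.pow_lt_pow_iff_right hq1).1 hcle
  have hc3 := mod_pow hu hclt.le hc2
  have hc4 : c = 2 := by
    obtain ⟨t, ht⟩ := hc3
    rcases t with _ | _ | t
    · omega
    · omega
    · have h1 : (2 * m - 2) * 2 ≤ (2 * m - 2) * (t + 1 + 1) := Nat.mul_le_mul_left _ (by omega)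
      omega
  subst hc4
  -- `x` is trivial on `R`
  obtain ⟨k, hk⟩ := exists_card hq R
  have hkm : k ≤ m := by
    rw [hk, hV, ← pow_mul] at hRle
    have := (Nat.pow_le_pow_iff_right hq1).1 hRle
    omega
  obtain ⟨j, hj⟩ := exists_card hq (R ⊓ cfix F (x : ↥(E Q)) : Submodule F V)
  have hc1 := card_cfix_modEq hx' R (hinv x x.2)
  rw [hk, hj] at hc1
  have hjk : j ≤ k := by
    have h1 : Nat.card (R ⊓ cfix F (x : ↥(E Q)) : Submodule F V) ≤ Nat.card R :=
      Nat.card_le_card_of_injective (Submodule.inclusion inf_le_left) (Submodule.inclusion_injective _)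
    rw [hj, hk] at h1
    exact (Nat.pow_le_pow_iff_right hq1).1 h1
  have hjk2 : j = k := by
    obtain ⟨t, ht⟩ := mod_pow hu hjk hc1
    rcases t with _ | t
    · omega
    · have h1 : (2 * m - 2) * 1 ≤ (2 * m - 2) * (t + 1) := Nat.mul_le_mul_left _ (by omega)
      omega
  have hRC : e ∈ cfix F (x : ↥(E Q)) := by
    have h1 : Function.Bijective (Submodule.inclusion (inf_le_left : R ⊓ cfix F (x : ↥(E Q)) ≤ R)) :=
      (Nat.bijective_iff_injective_and_card _).2 ⟨Submodule.inclusion_injective _, by rw [hj, hk, hjk2]⟩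
    obtain ⟨w, hw⟩ := h1.2 ⟨e, he⟩
    have : (w : V) = e := congrArg Subtype.val hw
    rw [← this]
    exact w.2.2
  -- count the singular vectors
  have hmod := card_modEq_of_order hx' {v : V | Q v = 0} (fun v hv => by
    show Q ((x : ↥(E Q)) • v) = 0
    have := E_le_O (x : ↥(E Q)).2 v
    exact this.trans hv)
  have hset : {y : V | y ∈ {v : V | Q v = 0} ∧ (x : ↥(E Q)) • y = y} = {v : V | v ∈ cfix F (x : ↥(E Q)) ∧ Q v = 0} := by
    ext y
    exact ⟨fun h => ⟨h.2, h.1⟩, fun h => ⟨h.2, h.1⟩⟩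
  rw [hset, h0] at hmod
  -- modulo `u`
  have hz : ∀ n : ℕ, ((q ^ n : ℕ) : ZMod u) = (q : ZMod u) ^ n := fun n => by push_cast; rfl
  have hzu : ((q : ZMod u)) ^ (m - 1) = -1 := by
    have h1 : u ∣ q ^ (m - 1) + 1 := by
      refine hu.dvd_add ⟨1, by omega⟩ fun h => ?_
      have := Nat.le_of_dvd (by omega) h
      omega
    have h2 : ((q ^ (m - 1) + 1 : ℕ) : ZMod u) = 0 := (ZMod.natCast_eq_zero_iff _ _).2 h1
    push_cast at h2
    exact eq_neg_of_add_eq_zero_left h2
  have hle : q ^ (m - 1) ≤ q ^ (2 * m - 1) + q ^ m :=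
    (Nat.pow_le_pow_right (by omega) (by omega)).trans (Nat.le_add_left _ _)
  have hN : ((q ^ (2 * m - 1) + q ^ m - q ^ (m - 1) : ℕ) : ZMod u) = 1 := by
    rw [Nat.cast_sub hle]
    push_cast
    rw [hzu, show 2 * m - 1 = (m - 1) * 2 + 1 by omega, pow_succ, pow_mul, hzu,
      show (q : ZMod u) ^ m = (q : ZMod u) ^ (m - 1) * q by rw [← pow_succ]; congr 1; omega, hzu]
    ring
  have hmod' := (ZMod.natCast_eq_natCast_iff _ _ _).2 hmod
  rw [hN] at hmod'
  have hq1' : (q : ZMod u) ≠ 1 := by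
    intro h
    have h1 : u ∣ q - 1 := by
      have h2 : ((q - 1 : ℕ) : ZMod u) = 0 := by
        rw [Nat.cast_sub hq1.le, h]; simp
      exact (ZMod.natCast_eq_zero_iff _ _).1 h2
    have h3 := (hu.dvd_iff 1).1 (by rwa [pow_one])
    have := Nat.le_of_dvd (by norm_num) h3
    omega
  have hq2' : (q : ZMod u) ^ 2 ≠ 1 := by
    intro h
    have h1 : u ∣ q ^ 2 - 1 := by
      have h2 : ((q ^ 2 - 1 : ℕ) : ZMod u) = 0 := by
        rw [Nat.cast_sub (Nat.one_le_pow _ _ (by omega))]; push_cast; rw [h]; simp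
      exact (ZMod.natCast_eq_zero_iff _ _).1 h2
    have h3 := (hu.dvd_iff 2).1 h1
    have := Nat.le_of_dvd (by norm_num) h3
    omega
  have h2u : (2 : ZMod u) ≠ 0 := by
    intro h
    have h1 : u ∣ 2 := (ZMod.natCast_eq_zero_iff 2 u).1 (by exact_mod_cast h)
    have h2 : u = 2 := (Nat.prime_dvd_prime_iff_eq hu.prime Nat.prime_two).1 h1
    rcases Nat.even_or_odd q with ho | ho
    · exact hu.not_dvd (h2 ▸ ho.two_dvd)
    · have h4 : u ∣ q ^ 1 - 1 := by
        rw [pow_one, h2]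
        exact (Nat.even_sub' hq1.le).2 (by simp [ho]) |>.two_dvd
      have h3 := (hu.dvd_iff 1).1 h4
      have := Nat.le_of_dvd (by norm_num) h3
      omega
  rcases card_plane (Q := Q) (C := cfix F (x : ↥(E Q))) (by rw [hc, hq]) hRC he0 hQe with h | h | h
  · rw [h, hq] at hmod'
    push_cast at hmod'
    exact hq2' hmod'.symm
  · rw [h, hq] at hmod'
    exact hq1' hmod'.symm
  · rw [hq] at h
    have h1 := congrArg (Nat.cast : ℕ → ZMod u) h
    push_cast at h1
    rw [← hmod'] at h1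
    have h2 : (2 : ZMod u) * ((q : ZMod u) - 1) = 0 := by rw [mul_sub, ← h1]; ring
    exact (mul_ne_zero h2u (sub_ne_zero.2 hq1')) h2

/-- `Ω₈⁺(2)` -/
theorem core_two (hG : Good Q) (hq : Nat.card F = 2) [CharP F 2] (hV : Nat.card V = 2 ^ 8)
    (h0 : Nat.card {v : V | Q v = 0} = 136) {M : Subgroup ↥(E Q)} (hsq : ¬ 3 ^ 2 ∣ M.index)
    {R : Submodule F V} (hinv : ∀ g ∈ M, ∀ v ∈ R, g • v ∈ R) (hiso : ∀ v ∈ R, ∀ w ∈ R, polar Q v w = 0)
    (hRle : Nat.card R ^ 2 ≤ Nat.card V) {e : V} (he : e ∈ R) (he0 : e ≠ 0) (hQe : Q e = 0) : False := by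
  let R0 : Submodule F V :=
    { carrier := {v | v ∈ R ∧ Q v = 0}
      add_mem' := fun {a b} ha hb => ⟨R.add_mem ha.1 hb.1, by rw [Q_add, ha.2, hb.2, hiso a ha.1 b hb.1]; ring⟩
      zero_mem' := ⟨R.zero_mem, QuadraticMap.map_zero Q⟩
      smul_mem' := fun c v hv => ⟨R.smul_mem c hv.1, by rw [QuadraticMap.map_smul, hv.2, smul_zero]⟩ }
  obtain ⟨k, hk⟩ := exists_card hq R0
  have hR0 : 1 < Nat.card R0 := one_lt_card_of_ne_bot ((Submodule.ne_bot_iff _).2 ⟨e, ⟨he, hQe⟩, he0⟩)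
  have hle : Nat.card R0 ≤ Nat.card R :=
    Nat.card_le_card_of_injective (Submodule.inclusion (fun v hv => hv.1 : R0 ≤ R)) (Submodule.inclusion_injective _)
  have hk4 : k ≤ 4 := by
    have h1 : Nat.card R0 ^ 2 ≤ 2 ^ 8 := (Nat.pow_le_pow_left hle 2).trans (hRle.trans_eq hV)
    rw [hk, ← pow_mul] at h1
    have := (Nat.pow_le_pow_iff_right (by norm_num : 1 < 2)).1 h1
    omega
  have hk0 : 1 ≤ k := Nat.one_le_iff_ne_zero.2 (by rintro rfl; rw [hk] at hR0; norm_num at hR0)
  have h3 : 3 ^ 2 ∣ Nat.card ↥((R0 : Set V) \ {0}) := by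
    refine orbit_dvd (G := ↥(E Q)) Nat.prime_three hsq _ ?_ ?_
    · rintro g hg v ⟨hv1, hv2⟩
      refine ⟨⟨hinv g hg v hv1.1, (E_le_O g.2 v).trans hv1.2⟩, fun h => hv2 ((smul_eq_zero_iff_eq g).1 h)⟩
    · rintro v ⟨hv1, hv2⟩
      have h4 : Nat.card {w : V | w ≠ 0 ∧ Q w = Q v} = 135 := by
        have h5 : {w : V | w ≠ 0 ∧ Q w = Q v} = {w : V | Q w = 0} \ {0} := by
          ext w
          rw [hv1.2]
          exact ⟨fun h => ⟨h.2, h.1⟩, fun h => ⟨h.2, h.1⟩⟩
        rw [h5, Nat.card_coe_set_eq, Set.ncard_sdiff_singleton_of_mem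
          (show (0 : V) ∈ {w : V | Q w = 0} from QuadraticMap.map_zero Q), ← Nat.card_coe_set_eq, h0]
      rw [card_orbit hG hv2, h4]
      norm_num
  rw [card_diff_zero, hk] at h3
  interval_cases k <;> revert h3 <;> decide

end core

section main

open Cfsg.Agent.LieClassical Cfsg.Agent.LieClassical.OrthFinite Cfsg.Agent.LieClassical.OrthForms

variable {F : Type} [Field F] [Fintype F]

theorem card_norm (m : ℕ) {p : ℕ} [Fact p.Prime] [CharP F p] (h2 : 2 ≤ m) (c : F) (hc : c ≠ 0) :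
    p ∣ Nat.card {v : Fin m ⊕ Fin m → F | plusForm m F v = c} := by
  classical
  have h := QuadCount.card_plus (F := F) m c
  rw [if_neg hc, add_zero] at h
  have hpq : p ∣ Fintype.card F := by
    obtain ⟨n, hp, hn⟩ := FiniteField.card F p
    rw [hn]
    exact dvd_pow_self p n.2.ne'
  have hq : 0 < Fintype.card F := Fintype.card_pos
  obtain ⟨k, rfl⟩ : ∃ k, m = k + 2 := ⟨m - 2, by omega⟩
  have h3 : Nat.card {v : Fin (k + 2) ⊕ Fin (k + 2) → F // Cfsg.quadFormPlus (k + 2) F v = c} + Fintype.card F ^ (k + 1) =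
      Fintype.card F ^ (2 * k + 3) := by
    refine Nat.eq_of_mul_eq_mul_left hq ?_
    rw [mul_add, ← pow_succ', ← pow_succ', h]
    congr 1
  have h4 : {v : Fin (k + 2) ⊕ Fin (k + 2) → F | plusForm (k + 2) F v = c} =
      {v | Cfsg.quadFormPlus (k + 2) F v = c} := by rw [coe_plusForm]
  rw [h4]
  exact (Nat.dvd_add_left (hpq.trans (dvd_pow_self _ (by omega)))).1 (h3 ▸ hpq.trans (dvd_pow_self _ (by omega)))

theorem sq_po_plus {m : ℕ} (hm : 4 ≤ m) : SQ (Cfsg.POmega F (Cfsg.quadFormPlus m F)) := by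
  classical
  obtain ⟨p, hch⟩ := CharP.exists F
  have hp : Fact p.Prime := ⟨CharP.char_is_prime F p⟩
  have hq : Nat.card F = Fintype.card F := Nat.card_eq_fintype_card
  have hq1 : 1 < Fintype.card F := Fintype.one_lt_card
  -- the model
  have hG : Good (plusForm m F) := by
    apply good_of_finite (nondeg_plusForm m F)
    rw [Module.finrank_fintype_fun_eq_card, Fintype.card_sum, Fintype.card_fin]
    omega
  have hPar : Par p (Cfsg.POmega F (Cfsg.quadFormPlus m F)) := by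
    obtain ⟨n, rfl⟩ : ∃ n, m = n + 3 := ⟨m - 3, by omega⟩
    exact (CommTab.hasCG_PO_plus (F := F) n (p := p)).par
  let e : Cfsg.POmega F (Cfsg.quadFormPlus m F) ≃*
      (↥(E (plusForm m F)) ⧸ Subgroup.center ↥(E (plusForm m F))) := by
    rw [← coe_plusForm]
    exact quotientCenterCongr ((omegaEquiv (plusForm m F)).trans (MulEquiv.subgroupCongr hG.commutator_eq_E))
  have hParE := hPar.of_equiv e
  have hfinT : Finite (Cfsg.POmega F (Cfsg.quadFormPlus m F)) := Finite.of_equiv _ e.symm.toEquiv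
  refine sq_of_sqMax (SQMax.congr e.symm fun M hM hsq => Or.inl ?_)
  obtain ⟨hidx, V, hV, hVp, -, hMV⟩ := hParE.of_isCoatom hM (not_sq_dvd hsq hp.out)
  obtain ⟨P, hP, hPp, hMP⟩ := exists_pgroup
    (QuotientGroup.mk' (Subgroup.center ↥(E (plusForm m F)))) (QuotientGroup.mk'_surjective _)
    (by rw [QuotientGroup.ker_mk']) hV hVp hMV
  set M' := M.comap (QuotientGroup.mk' (Subgroup.center ↥(E (plusForm m F)))) with hM'
  have hidx' : M'.index = M.index := Subgroup.index_comap_of_surjective M (QuotientGroup.mk'_surjective _)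
  obtain ⟨R, hR0, hRinv, hRiso, hRle⟩ := exists_isotropic (p := p) (frm hG.nondeg) hP hPp hMP
  obtain ⟨v, hv, hv0, hQv⟩ := exists_sing hG (p := p) (fun c hc => card_norm m (by omega) c hc)
    (M := M') (by rw [hidx']; exact hidx) hR0 hRinv
  have hcV : Nat.card (Fin m ⊕ Fin m → F) = Fintype.card F ^ (2 * m) := by
    rw [Nat.card_eq_fintype_card, Fintype.card_fun, Fintype.card_sum, Fintype.card_fin, two_mul]
  have h0 : Nat.card {v : Fin m ⊕ Fin m → F | plusForm m F v = 0} =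
      Fintype.card F ^ (2 * m - 1) + Fintype.card F ^ m - Fintype.card F ^ (m - 1) := by
    have h1 : {v : Fin m ⊕ Fin m → F | plusForm m F v = 0} = {v | Cfsg.quadFormPlus m F v = 0} := by
      rw [coe_plusForm]
    rw [h1]
    exact S0289.result (F := F) rfl m (by omega)
  by_cases hex : Fintype.card F = 2 ∧ 2 * m - 2 = 6
  · exfalso
    obtain ⟨hF2, hm4⟩ := hex
    have hm' : m = 4 := by omega
    subst hm'
    have : CharP F 2 := by
      have : Fact (Nat.Prime 2) := ⟨Nat.prime_two⟩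
      exact charP_of_card_eq_prime hF2
    rw [hF2] at h0 hcV
    exact core_two hG (by rw [hq, hF2]) hcV (h0.trans (by norm_num)) (M := M')
      (by rw [hidx']; exact not_sq_dvd hsq Nat.prime_three) hRinv hRiso hRle hv hv0 hQv
  · obtain ⟨u, hu⟩ := exists_prim (q := Fintype.card F) (e := 2 * m - 2) hq1 (by omega) hex
    by_cases hdiv : u ∣ Nat.card M
    · exfalso
      exact core_u hq hcV hm h0 hu (M := M') hRinv hRle hv hv0 hQv
        (hdiv.trans (card_dvd_comap _ (QuotientGroup.mk'_surjective _) M))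
    · refine der_of_prime hu.prime ?_ hdiv
      rw [← Nat.card_congr e.toEquiv]
      -- `u` divides the order
      have h1 := S0293.result (F := F) rfl m hm
      have h2 : u ∣ Nat.gcd 4 (Fintype.card F ^ m - 1) * Nat.card (Cfsg.POmega F (Cfsg.quadFormPlus m F)) := by
        rw [h1]
        refine Dvd.dvd.mul_left ?_ _
        refine (hu.dvd (m := 2 * (m - 2 + 1)) ⟨1, by omega⟩).trans ?_
        exact Finset.dvd_prod_of_mem (fun i => Fintype.card F ^ (2 * (i + 1)) - 1)
          (Finset.mem_range.2 (show m - 2 < m - 1 by omega))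
      refine (hu.prime.dvd_mul.1 h2).resolve_left fun h3 => ?_
      have h4 : u ∣ Fintype.card F ^ m - 1 := h3.trans (Nat.gcd_dvd_right _ _)
      have := Nat.le_of_dvd (by omega) ((hu.dvd_iff m).1 h4)
      omega

end main

end Cfsg.Agent.H686.SqPlus
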