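import Cfsg.Agent.H686.SqGen
import Cfsg.Agent.H396.CommTab4
import Cfsg.Agent.H396.Der
import Cfsg.Agent.H343.Arith
import Cfsg.Agent.H119.SLVec
import Cfsg.Agent.LieClassical.SympTransvection
import Cfsg.Agent.LieClassical.HermGen
import Cfsg.Agent.S0285

/-!
# Square-free index in `PSL6(2)`, `PSU4(2)`, `PSp6(2)` (helper686)
-/

set_option autoImplicit false
set_option linter.unusedSectionVars false

namespace Cfsg.Agent.H686.SqSmall

open MulAction Matrix Cfsg.Agent.H396 Cfsg.Agent.H686.SqGen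

/-- action of a matrix group on column vectors -/
@[reducible] def matAct {ι F G : Type*} [Fintype ι] [DecidableEq ι] [Field F] [Group G] (ρ : G →* Matrix ι ι F) :
    DistribMulAction G (ι → F) where
  smul g v := ρ g *ᵥ v
  one_smul v := by show ρ 1 *ᵥ v = v; rw [map_one, one_mulVec]
  mul_smul a b v := by show ρ (a * b) *ᵥ v = ρ a *ᵥ ρ b *ᵥ v; rw [map_mul, mulVec_mulVec]
  smul_zero a := mulVec_zero _
  smul_add a v w := mulVec_add _ _ _

section arith

theorem exists_card {F V : Type*} [Field F] [Finite F] [AddCommGroup V] [Module F V] [Finite V] {q : ℕ}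
    (hF : Nat.card F = q) (W : Submodule F V) : ∃ k : ℕ, Nat.card W = q ^ k := by
  have : Module.Finite F V := Module.Finite.of_finite
  exact ⟨_, by rw [Module.natCard_eq_pow_finrank (K := F), hF]⟩

end arith

/-- the subgroup of `G` fixed by an element as a submodule -/
def cfix (F : Type*) {V G : Type*} [Field F] [AddCommGroup V] [Module F V] [Group G] [DistribMulAction G V]
    [SMulCommClass G F V] (x : G) : Submodule F V where
  carrier := {v | x • v = v}
  add_mem' {a b} ha hb := by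
    change x • (a + b) = a + b
    rw [smul_add, show x • a = a from ha, show x • b = b from hb]
  zero_mem' := smul_zero x
  smul_mem' c v hv := by
    change x • c • v = c • v
    rw [smul_comm, show x • v = v from hv]

theorem mem_cfix {F V G : Type*} [Field F] [AddCommGroup V] [Module F V] [Group G] [DistribMulAction G V]
    [SMulCommClass G F V] {x : G} {v : V} : v ∈ cfix F x ↔ x • v = v := Iff.rfl

theorem card_cfix_modEq {F V G : Type*} [Field F] [AddCommGroup V] [Module F V] [Finite V] [Group G]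
    [DistribMulAction G V] [SMulCommClass G F V] {r : ℕ} [Fact r.Prime] {x : G} (hx : orderOf x = r)
    (W : Submodule F V) (hW : ∀ w ∈ W, x • w ∈ W) :
    Nat.card W ≡ Nat.card (W ⊓ cfix F x : Submodule F V) [MOD r] :=
  card_modEq_of_order hx (W : Set V) hW

theorem cfix_ne_top {F V G : Type*} [Field F] [AddCommGroup V] [Module F V] [Group G] [DistribMulAction G V]
    [SMulCommClass G F V] [FaithfulSMul G V] {x : G} (hx : x ≠ 1) : cfix F x ≠ (⊤ : Submodule F V) := by
  intro h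
  refine hx (eq_of_smul_eq_smul (α := V) fun v => ?_)
  have hv : v ∈ cfix F x := by rw [h]; trivial
  rw [one_smul]
  exact hv

theorem card_lt_of_ne_top {F V : Type*} [Field F] [AddCommGroup V] [Module F V] [Finite V] {W : Submodule F V}
    (hW : W ≠ ⊤) : Nat.card W < Nat.card V := by
  refine lt_of_le_of_ne (Nat.card_le_card_of_injective _ W.subtype_injective) fun h => hW ?_
  have h3 : Function.Bijective W.subtype :=
    (Nat.bijective_iff_injective_and_card _).2 ⟨W.subtype_injective, h⟩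
  rw [eq_top_iff]
  intro v _
  obtain ⟨w, rfl⟩ := h3.2 v
  exact w.2

theorem one_lt_card_of_ne_bot {F V : Type*} [Field F] [AddCommGroup V] [Module F V] [Finite V] {W : Submodule F V}
    (hW : W ≠ ⊥) : 1 < Nat.card W := by
  rw [Finite.one_lt_card_iff_nontrivial]
  exact (Submodule.nontrivial_iff_ne_bot).2 hW

theorem card_dvd_comap {G T : Type*} [Group G] [Finite G] [Group T] (f : G →* T) (hf : Function.Surjective f)
    (M : Subgroup T) : Nat.card M ∣ Nat.card (M.comap f) := by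
  let g : M.comap f →* M := (f.comp (M.comap f).subtype).codRestrict M fun x => x.2
  have hgsurj : Function.Surjective g := by
    rintro ⟨v, hv⟩
    obtain ⟨x, hx⟩ := hf v
    exact ⟨⟨x, show f x ∈ M by rw [hx]; exact hv⟩, Subtype.ext hx⟩
  exact Subgroup.card_dvd_of_surjective g hgsurj

theorem not_sq_dvd {n : ℕ} (h : Squarefree n) {r : ℕ} (hr : r.Prime) : ¬ r ^ 2 ∣ n := fun h2 =>
  hr.one_lt.ne' (Nat.isUnit_iff.1 (h r (by rwa [← pow_two])))

/-- nonzero vectors of a submodule -/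
theorem card_diff_zero {F V : Type*} [Field F] [AddCommGroup V] [Module F V] [Finite V] (W : Submodule F V) :
    Nat.card ↥((W : Set V) \ {0}) = Nat.card W - 1 := by
  rw [Nat.card_coe_set_eq, Set.ncard_sdiff_singleton_of_mem W.zero_mem]
  rfl

theorem card_compl {F V : Type*} [Field F] [AddCommGroup V] [Module F V] [Finite V] (W : Submodule F V) :
    Nat.card ↥((W : Set V)ᶜ) = Nat.card V - Nat.card W := by
  rw [Nat.card_coe_set_eq, Set.ncard_compl]
  rfl

section psl

variable {F : Type} [Field F] [Fintype F]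

theorem sq_psl62 (hF : Fintype.card F = 2) : SQ (Matrix.ProjectiveSpecialLinearGroup (Fin 6) F) := by
  classical
  have hF' : Nat.card F = 2 := by rw [Nat.card_eq_fintype_card, hF]
  have : Fact (Nat.Prime 2) := ⟨Nat.prime_two⟩
  have : Fact (Nat.Prime 31) := ⟨by norm_num⟩
  have hch : CharP F 2 := charP_of_card_eq_prime hF
  refine sq_of_sqMax fun M hM hsq => Or.inl ?_
  by_cases h31 : 31 ∣ Nat.card M
  swap
  · refine der_of_prime (v := 31) (by norm_num) ?_ h31
    have h1 := S0243.result (F := F) hF 6 (by norm_num)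
    rw [show ∏ i : Fin 6, (2 ^ 6 - 2 ^ (i : ℕ)) = 20158709760 by decide] at h1
    rw [show Nat.gcd 6 (2 - 1) = 1 by decide, show 2 - 1 = 1 from rfl, one_mul, one_mul] at h1
    rw [h1]
    norm_num
  exfalso
  obtain ⟨-, V, hV, hVp, -, hMV⟩ :=
    (CommTab.hasCG_PSL (F := F) 5 (by norm_num) (p := 2)).par.of_isCoatom hM (not_sq_dvd hsq Nat.prime_two)
  set G := SpecialLinearGroup (Fin 6) F with hG
  obtain ⟨Q, hQ, hQp, hMQ⟩ := exists_pgroup (QuotientGroup.mk' (Subgroup.center G))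
    (QuotientGroup.mk'_surjective _) (by rw [QuotientGroup.ker_mk']) hV hVp hMV
  set M' := M.comap (QuotientGroup.mk' (Subgroup.center G)) with hM'
  have hidx : M'.index = M.index := Subgroup.index_comap_of_surjective M (QuotientGroup.mk'_surjective _)
  let act : DistribMulAction G (Fin 6 → F) := matAct (slToMat 6 F)
  have hcomm : SMulCommClass G F (Fin 6 → F) := ⟨fun g c v => mulVec_smul _ _ _⟩
  have hfaith : FaithfulSMul G (Fin 6 → F) := ⟨fun {a b} h => Subtype.ext (Matrix.mulVec_injective (funext h))⟩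
  have hcV : Nat.card (Fin 6 → F) = 64 := by
    rw [Nat.card_eq_fintype_card, Fintype.card_fun, hF, Fintype.card_fin]; norm_num
  set W : Submodule F (Fin 6 → F) := fix F Q with hW
  have hWinv : ∀ m ∈ M', ∀ v ∈ W, m • v ∈ W := fun m hm v hv => fix_smul_mem (hMQ hm) hv
  have hW0 : W ≠ ⊥ := by
    obtain ⟨w, -, hw0, hw⟩ := exists_fixed (F := F) (V := Fin 6 → F) hQp (W := ⊤) top_ne_bot (fun _ _ _ _ => trivial)
    exact (Submodule.ne_bot_iff _).2 ⟨w, hw, hw0⟩
  have hW1 : Nat.card W < 64 := hcV ▸ card_lt_of_ne_top (fix_ne_top hQ)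
  obtain ⟨k, hk⟩ := exists_card hF' W
  have hW2 : 1 < Nat.card W := one_lt_card_of_ne_bot hW0
  have horb : ∀ v : Fin 6 → F, v ≠ 0 → Nat.card (orbit G v) = 63 := by
    intro v hv
    have h1 : orbit G v = {0}ᶜ := by
      ext w
      refine ⟨fun ⟨g, hg⟩ => ?_, fun hw => ?_⟩
      · intro hw
        rw [Set.mem_singleton_iff] at hw
        rw [hw] at hg
        exact hv ((smul_eq_zero_iff_eq g).1 hg)
      · obtain ⟨g, hg⟩ := H119.SLVec.exists_map_one (n := 6) (by norm_num) hv hw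
        exact ⟨g, hg⟩
    rw [h1, Nat.card_coe_set_eq, Set.ncard_compl, Set.ncard_singleton, hcV]
  have hsq3 : ¬ 3 ^ 2 ∣ M'.index := by rw [hidx]; exact not_sq_dvd hsq Nat.prime_three
  have h3 : 3 ^ 1 ∣ Nat.card ↥((W : Set (Fin 6 → F)) \ {0}) := by
    refine orbit_dvd (G := G) Nat.prime_three hsq3 _ ?_ ?_
    · rintro m hm v ⟨hv1, hv2⟩
      exact ⟨hWinv m hm v hv1, fun h => hv2 ((smul_eq_zero_iff_eq m).1 h)⟩
    · rintro v ⟨-, hv2⟩
      rw [horb v hv2]
      norm_num
  have h3' : 3 ^ 1 ∣ Nat.card ↥((W : Set (Fin 6 → F))ᶜ) := by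
    refine orbit_dvd (G := G) Nat.prime_three hsq3 _ ?_ ?_
    · intro m hm v hv hv2
      have := hWinv m⁻¹ (inv_mem hm) _ hv2
      rw [inv_smul_smul] at this
      exact hv this
    · intro v hv
      rw [horb v (fun h => hv (by rw [h]; exact W.zero_mem))]
      norm_num
  rw [card_diff_zero, hk] at h3
  rw [card_compl, hcV, hk] at h3'
  -- an element of order 31
  obtain ⟨x, hx⟩ := exists_prime_orderOf_dvd_card' (G := M') 31 (h31.trans (card_dvd_comap _ (QuotientGroup.mk'_surjective _) M))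
  have hx' : orderOf (x : G) = 31 := by rw [Subgroup.orderOf_coe]; exact hx
  have hx1 : (x : G) ≠ 1 := by
    intro h
    rw [h, orderOf_one] at hx'
    norm_num at hx'
  have hc1 := card_cfix_modEq hx' W (hWinv x x.2)
  have hc2 := card_cfix_modEq (F := F) hx' (⊤ : Submodule F (Fin 6 → F)) (fun _ _ => trivial)
  rw [top_inf_eq] at hc2
  obtain ⟨c, hc⟩ := exists_card hF' (cfix F (x : G) : Submodule F (Fin 6 → F))
  obtain ⟨j, hj⟩ := exists_card hF' (W ⊓ cfix F (x : G) : Submodule F (Fin 6 → F))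
  have hcle : Nat.card (cfix F (x : G) : Submodule F (Fin 6 → F)) < 64 := hcV ▸ card_lt_of_ne_top (cfix_ne_top hx1)
  have hjle : Nat.card (W ⊓ cfix F (x : G) : Submodule F (Fin 6 → F)) ≤
      Nat.card (cfix F (x : G) : Submodule F (Fin 6 → F)) :=
    Nat.card_le_card_of_injective (Submodule.inclusion inf_le_right) (Submodule.inclusion_injective _)
  have hctop : Nat.card (⊤ : Submodule F (Fin 6 → F)) = 64 := by
    rw [← hcV]; exact Nat.card_congr (Equiv.Set.univ _)
  rw [hctop, hc] at hc2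
  rw [hk, hj] at hc1
  rw [hc] at hcle
  rw [hj, hc] at hjle
  rw [hk] at hW1 hW2
  have hc6 : c < 6 := (Nat.pow_lt_pow_iff_right (by norm_num : 1 < 2)).1 (by simpa using hcle)
  have hk6 : k < 6 := (Nat.pow_lt_pow_iff_right (by norm_num : 1 < 2)).1 (by simpa using hW1)
  have hjc : j ≤ c := (Nat.pow_le_pow_iff_right (by norm_num : 1 < 2)).1 hjle
  have hk0 : 1 ≤ k := Nat.one_le_iff_ne_zero.2 (by rintro rfl; norm_num at hW2)
  have hc1' : c = 1 := by
    interval_cases c <;> first | rfl | (exfalso; revert hc2; decide)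
  subst hc1'
  have hk5 : k = 1 ∨ k = 5 := by
    interval_cases j <;> interval_cases k <;> first | exact Or.inl rfl | exact Or.inr rfl | (exfalso; revert hc1; decide)
  rcases hk5 with rfl | rfl
  · norm_num at h3
  · norm_num at h3'

end psl

/-- averaging: a fixed vector is not orthogonal to all fixed vectors -/
theorem exists_fix_ne {F V G : Type*} [Field F] [AddCommGroup V] [Module F V] [Group G] [DistribMulAction G V]
    [SMulCommClass G F V] {B : V → V → F} (hB : Frm F G B) {x : G} {n : ℕ} (hx : x ^ n = 1) (hn : (n : F) ≠ 0) {r : V}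
    (hr : x • r = r) (hr0 : r ≠ 0) : ∃ s : V, x • s = s ∧ B s r ≠ 0 := by
  obtain ⟨v, hv⟩ : ∃ v, B v r ≠ 0 := by
    by_contra hcon
    push Not at hcon
    exact hr0 (hB.nondeg r fun v => hB.refl _ _ (hcon v))
  have hpow : ∀ i : ℕ, x ^ i • r = r := by
    intro i
    induction i with
    | zero => rw [pow_zero, one_smul]
    | succ i ih => rw [pow_succ', mul_smul, ih, hr]
  refine ⟨∑ i ∈ Finset.range n, x ^ i • v, ?_, ?_⟩
  · rw [Finset.smul_sum]
    have h1 : ∀ i ∈ Finset.range n, x • x ^ i • v = x ^ (i + 1) • v := fun i _ => by rw [pow_succ', mul_smul]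
    rw [Finset.sum_congr rfl h1]
    have h2 := Finset.sum_range_succ' (fun i => x ^ i • v) n
    have h3 := Finset.sum_range_succ (fun i => x ^ i • v) n
    rw [h3, hx, pow_zero] at h2
    exact (add_right_cancel h2).symm
  · have h1 : B (∑ i ∈ Finset.range n, x ^ i • v) r = ∑ i ∈ Finset.range n, B (x ^ i • v) r :=
      map_sum (lin hB r) _ _
    have h2 : ∀ i ∈ Finset.range n, B (x ^ i • v) r = B v r := fun i _ => by
      have := hB.inv (x ^ i) v r
      rwa [hpow i] at this
    rw [h1, Finset.sum_congr rfl h2, Finset.sum_const, Finset.card_range, nsmul_eq_mul]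
    exact mul_ne_zero hn hv

section core

variable {F V G : Type*} [Field F] [Finite F] [AddCommGroup V] [Module F V] [Finite V] [Group G] [Finite G]
  [DistribMulAction G V] [SMulCommClass G F V] [FaithfulSMul G V] {B : V → V → F} {M' Q : Subgroup G}

theorem core_psp (hB : Frm F G B) (hF' : Nat.card F = 2) [CharP F 2] (hcV : Nat.card V = 64)
    (horb : ∀ v : V, v ≠ 0 → Nat.card (orbit G v) = 63) (hQ : Q ≠ ⊥) (hQp : IsPGroup 2 Q)
    (hMQ : M' ≤ Subgroup.normalizer (Q : Set G)) (hsq3 : ¬ 3 ^ 2 ∣ M'.index) (h5 : 5 ∣ Nat.card M') : False := by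
  have : Fact (Nat.Prime 2) := ⟨Nat.prime_two⟩
  have : Fact (Nat.Prime 5) := ⟨by norm_num⟩
  obtain ⟨R, hR0, hRinv, hRiso, hRle⟩ := exists_isotropic hB hQ hQp hMQ
  obtain ⟨k, hk⟩ := exists_card hF' R
  have hR1 : 1 < Nat.card R := one_lt_card_of_ne_bot hR0
  have h3 : 3 ^ 1 ∣ Nat.card ↥((R : Set V) \ {0}) := by
    refine orbit_dvd (G := G) Nat.prime_three hsq3 _ ?_ ?_
    · rintro m hm v ⟨hv1, hv2⟩
      exact ⟨hRinv m hm v hv1, fun h => hv2 ((smul_eq_zero_iff_eq m).1 h)⟩
    · rintro v ⟨-, hv2⟩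
      rw [horb v hv2]
      norm_num
  rw [card_diff_zero, hk] at h3
  rw [hk, hcV, ← pow_mul, show 64 = 2 ^ 6 by norm_num] at hRle
  have hk3 : k * 2 ≤ 6 := (Nat.pow_le_pow_iff_right (by norm_num : 1 < 2)).1 hRle
  have hk0 : 1 ≤ k := Nat.one_le_iff_ne_zero.2 (by rintro rfl; rw [hk] at hR1; norm_num at hR1)
  have hk2 : k = 2 := by
    have : k ≤ 3 := by omega
    interval_cases k <;> first | rfl | (exfalso; revert h3; decide)
  subst hk2
  -- an element of order 5
  obtain ⟨x, hx⟩ := exists_prime_orderOf_dvd_card' (G := M') 5 h5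
  have hx' : orderOf (x : G) = 5 := by rw [Subgroup.orderOf_coe]; exact hx
  have hx1 : (x : G) ≠ 1 := by
    intro h
    rw [h, orderOf_one] at hx'
    norm_num at hx'
  have hc1 := card_cfix_modEq hx' R (hRinv x x.2)
  have hc2 := card_cfix_modEq (F := F) hx' (⊤ : Submodule F V) (fun _ _ => trivial)
  rw [top_inf_eq] at hc2
  obtain ⟨c, hc⟩ := exists_card hF' (cfix F (x : G) : Submodule F V)
  obtain ⟨j, hj⟩ := exists_card hF' (R ⊓ cfix F (x : G) : Submodule F V)
  have hcle : Nat.card (cfix F (x : G) : Submodule F V) < 64 := hcV ▸ card_lt_of_ne_top (cfix_ne_top hx1)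
  have hjle : Nat.card (R ⊓ cfix F (x : G) : Submodule F V) ≤ Nat.card (cfix F (x : G) : Submodule F V) :=
    Nat.card_le_card_of_injective (Submodule.inclusion inf_le_right) (Submodule.inclusion_injective _)
  have hctop : Nat.card (⊤ : Submodule F V) = 64 := by
    rw [← hcV]; exact Nat.card_congr (Equiv.Set.univ _)
  rw [hctop, hc] at hc2
  rw [hk, hj] at hc1
  rw [hc] at hcle
  have hc6 : c < 6 := (Nat.pow_lt_pow_iff_right (by norm_num : 1 < 2)).1 (by simpa using hcle)
  have hc3 : c = 2 := by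
    interval_cases c <;> first | rfl | (exfalso; revert hc2; decide)
  subst hc3
  rw [hj, hc] at hjle
  have hj2 : j ≤ 2 := (Nat.pow_le_pow_iff_right (by norm_num : 1 < 2)).1 hjle
  have hj3 : j = 2 := by
    interval_cases j <;> first | rfl | (exfalso; revert hc1; decide)
  subst hj3
  -- `C_V(x) ≤ R`
  have hle : cfix F (x : G) ≤ R := by
    intro v hv
    have h1 : Function.Bijective (Submodule.inclusion (inf_le_right : R ⊓ cfix F (x : G) ≤ cfix F (x : G))) :=
      (Nat.bijective_iff_injective_and_card _).2 ⟨Submodule.inclusion_injective _, by rw [hj, hc]⟩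
    obtain ⟨w, hw⟩ := h1.2 ⟨v, hv⟩
    have : (w : V) = v := congrArg Subtype.val hw
    rw [← this]
    exact w.2.1
  have hcb : cfix F (x : G) ≠ (⊥ : Submodule F V) := by
    intro h
    rw [h] at hc
    simp at hc
  obtain ⟨r, hr, hr0⟩ := (Submodule.ne_bot_iff _).1 hcb
  have h5F : ((5 : ℕ) : F) ≠ 0 := by
    intro h
    rw [CharP.cast_eq_zero_iff F 2] at h
    norm_num at h
  obtain ⟨s, hs, hsr⟩ := exists_fix_ne hB (x := (x : G)) (n := 5) (by rw [← hx']; exact pow_orderOf_eq_one _) h5F hr hr0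
  exact hsr (hRiso s (hle hs) r (hle hr))

theorem core_psu (hB : Frm F G B) (hF' : Nat.card F = 4) [CharP F 2] (hcV : Nat.card V = 256)
    (horb : ∀ v : V, v ≠ 0 → B v v = 0 → Nat.card (orbit G v) = 135) (hQ : Q ≠ ⊥) (hQp : IsPGroup 2 Q)
    (hMQ : M' ≤ Subgroup.normalizer (Q : Set G)) (hsq3 : ¬ 3 ^ 2 ∣ M'.index) : False := by
  have : Fact (Nat.Prime 2) := ⟨Nat.prime_two⟩
  obtain ⟨R, hR0, hRinv, hRiso, hRle⟩ := exists_isotropic hB hQ hQp hMQ
  obtain ⟨k, hk⟩ := exists_card hF' R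
  have hR1 : 1 < Nat.card R := one_lt_card_of_ne_bot hR0
  have h3 : 3 ^ 2 ∣ Nat.card ↥((R : Set V) \ {0}) := by
    refine orbit_dvd (G := G) Nat.prime_three hsq3 _ ?_ ?_
    · rintro m hm v ⟨hv1, hv2⟩
      exact ⟨hRinv m hm v hv1, fun h => hv2 ((smul_eq_zero_iff_eq m).1 h)⟩
    · rintro v ⟨hv1, hv2⟩
      rw [horb v hv2 (hRiso v hv1 v hv1)]
      norm_num
  rw [card_diff_zero, hk] at h3
  rw [hk, hcV, ← pow_mul, show 256 = 4 ^ 4 by norm_num] at hRle
  have hk3 : k * 2 ≤ 4 := (Nat.pow_le_pow_iff_right (by norm_num : 1 < 4)).1 hRle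
  have hk0 : 1 ≤ k := Nat.one_le_iff_ne_zero.2 (by rintro rfl; rw [hk] at hR1; norm_num at hR1)
  have : k ≤ 2 := by omega
  interval_cases k <;> revert h3 <;> decide

end core

section psp

open Cfsg.Agent.LieClassical Cfsg.Agent.LieClassical.SympTransvection

variable {F : Type} [Field F] [Fintype F]

theorem om_act {m : ℕ} (A : Matrix.symplecticGroup (Fin m) F) (u v : Fin m ⊕ Fin m → F) :
    om (A.1 *ᵥ u) (A.1 *ᵥ v) = om u v := by
  have h1 : (A.1)ᵀ * J (Fin m) F * A.1 = J (Fin m) F := SymplecticGroup.mem_iff'.1 A.2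
  rw [om_def, om_def, mulVec_mulVec, ← Matrix.vecMul_transpose, ← Matrix.dotProduct_mulVec, mulVec_mulVec,
    ← Matrix.mul_assoc, h1]

theorem sq_psp62 (hF : Fintype.card F = 2) (hPar : Par 2 (Cfsg.PSp 3 F)) : SQ (Cfsg.PSp 3 F) := by
  classical
  have hF' : Nat.card F = 2 := by rw [Nat.card_eq_fintype_card, hF]
  have : Fact (Nat.Prime 2) := ⟨Nat.prime_two⟩
  have hch : CharP F 2 := charP_of_card_eq_prime hF
  refine sq_of_sqMax fun M hM hsq => Or.inl ?_
  by_cases h5 : 5 ∣ Nat.card M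
  swap
  · refine der_of_prime (v := 5) (by norm_num) ?_ h5
    have h1 := Cfsg.Agent.H343.ord_psp (F := F) (m := 3) hF (by norm_num)
    rw [show Cfsg.Agent.OrdDiv.fPSp.den 3 2 = 1 by decide,
      show Cfsg.Agent.OrdDiv.fPSp.num 3 2 = 1451520 by decide +kernel, one_mul] at h1
    rw [h1]
    norm_num
  exfalso
  obtain ⟨-, V, hV, hVp, -, hMV⟩ := hPar.of_isCoatom hM (not_sq_dvd hsq Nat.prime_two)
  obtain ⟨Q, hQ, hQp, hMQ⟩ := exists_pgroup
    (QuotientGroup.mk' (Subgroup.center (Matrix.symplecticGroup (Fin 3) F)))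
    (QuotientGroup.mk'_surjective _) (by rw [QuotientGroup.ker_mk']) hV hVp hMV
  let act : DistribMulAction (Matrix.symplecticGroup (Fin 3) F) (Fin 3 ⊕ Fin 3 → F) :=
    matAct (Matrix.symplecticGroup (Fin 3) F).subtype
  have hcomm : @SMulCommClass (Matrix.symplecticGroup (Fin 3) F) F (Fin 3 ⊕ Fin 3 → F) act.toSMul _ :=
    @SMulCommClass.mk _ _ _ act.toSMul _ fun g c v => mulVec_smul _ _ _
  have hfaith : @FaithfulSMul (Matrix.symplecticGroup (Fin 3) F) (Fin 3 ⊕ Fin 3 → F) act.toSMul :=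
    @FaithfulSMul.mk _ _ act.toSMul fun {a b} h => Subtype.ext (Matrix.mulVec_injective (funext h))
  have hcV : Nat.card (Fin 3 ⊕ Fin 3 → F) = 64 := by
    rw [Nat.card_eq_fintype_card, Fintype.card_fun, hF, Fintype.card_sum, Fintype.card_fin]; norm_num
  have hB : @Frm F (Fin 3 ⊕ Fin 3 → F) (Matrix.symplecticGroup (Fin 3) F) _ _ _ _ act om :=
    @Frm.mk F (Fin 3 ⊕ Fin 3 → F) (Matrix.symplecticGroup (Fin 3) F) _ _ _ _ act om om_add_left om_smul_left
      (fun u v h => by rw [om_swap, h, neg_zero]) om_sub_right (fun g u v => om_act g u v) (fun u h => by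
        by_contra hu
        obtain ⟨v, hv⟩ := exists_om_ne_zero hu
        exact hv (h v))
  have horb : ∀ v : Fin 3 ⊕ Fin 3 → F, v ≠ 0 →
      Nat.card (@orbit (Matrix.symplecticGroup (Fin 3) F) _ act.toSMul v) = 63 := by
    intro v hv
    have h1 : @orbit (Matrix.symplecticGroup (Fin 3) F) _ act.toSMul v = {0}ᶜ := by
      ext w
      refine ⟨fun ⟨g, hg⟩ => ?_, fun hw => ?_⟩
      · intro hw
        rw [Set.mem_singleton_iff] at hw
        rw [hw] at hg
        have hg' : g.1 *ᵥ v = g.1 *ᵥ 0 := by rw [mulVec_zero]; exact hg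
        refine hv ?_
        have h2 : (g⁻¹ * g).1 *ᵥ v = (g⁻¹ * g).1 *ᵥ 0 := by
          show (g⁻¹.1 * g.1) *ᵥ v = (g⁻¹.1 * g.1) *ᵥ 0
          rw [← mulVec_mulVec, hg', mulVec_mulVec]
        rw [inv_mul_cancel] at h2
        simpa using h2
      · obtain ⟨a, u, b, y, hg⟩ := exists_tv_tv_mulVec_eq hv hw
        exact ⟨(tvS b y * tvS a u : Matrix.symplecticGroup (Fin 3) F), hg⟩
    rw [h1, Nat.card_coe_set_eq, Set.ncard_compl, Set.ncard_singleton, hcV]
  refine @core_psp F (Fin 3 ⊕ Fin 3 → F) (Matrix.symplecticGroup (Fin 3) F) _ _ _ _ _ _ _ act hcomm hfaith om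
    (M.comap (QuotientGroup.mk' (Subgroup.center (Matrix.symplecticGroup (Fin 3) F)))) Q hB hF' _ hcV horb hQ hQp hMQ ?_
    (h5.trans (card_dvd_comap _ (QuotientGroup.mk'_surjective _) M))
  rw [Subgroup.index_comap_of_surjective M (QuotientGroup.mk'_surjective _)]
  exact not_sq_dvd hsq Nat.prime_three

end psp

section psu

open Cfsg.Agent.LieClassical Cfsg.Agent.LieClassical.HermBasic Cfsg.Agent.LieClassical.HermGen

variable {F : Type} [Field F] [Fintype F]

theorem sq_psu42 (hF : Fintype.card F = 2 ^ 2) : SQ (Cfsg.PSU 4 F 2) := by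
  classical
  have hF' : Nat.card F = 4 := by rw [Nat.card_eq_fintype_card, hF]; norm_num
  have : Fact (Nat.Prime 2) := ⟨Nat.prime_two⟩
  have hch : CharP F 2 := charP_of_card_eq_prime_pow hF
  refine sq_of_sqMax fun M hM hsq => Or.inl ?_
  exfalso
  obtain ⟨-, V, hV, hVp, -, hMV⟩ :=
    (CommTab.hasCG_PSU (N := 4) hF le_rfl (p := 2)).par.of_isCoatom hM (not_sq_dvd hsq Nat.prime_two)
  obtain ⟨Q, hQ, hQp, hMQ⟩ := exists_pgroup (QuotientGroup.mk' (Subgroup.center (Cfsg.SU 4 F 2)))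
    (QuotientGroup.mk'_surjective _) (by rw [QuotientGroup.ker_mk']) hV hVp hMV
  let act : DistribMulAction (Cfsg.SU 4 F 2) (Fin 4 → F) := matAct ((slToMat 4 F).comp (Cfsg.SU 4 F 2).subtype)
  have hcomm : @SMulCommClass (Cfsg.SU 4 F 2) F (Fin 4 → F) act.toSMul _ :=
    @SMulCommClass.mk _ _ _ act.toSMul _ fun g c v => mulVec_smul _ _ _
  have hfaith : @FaithfulSMul (Cfsg.SU 4 F 2) (Fin 4 → F) act.toSMul :=
    @FaithfulSMul.mk _ _ act.toSMul fun {a b} h =>
      Subtype.ext (Subtype.ext (Matrix.mulVec_injective (funext h)))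
  have hcV : Nat.card (Fin 4 → F) = 256 := by
    rw [Nat.card_eq_fintype_card, Fintype.card_fun, hF, Fintype.card_fin]; norm_num
  have hB : @Frm F (Fin 4 → F) (Cfsg.SU 4 F 2) _ _ _ _ act (Cfsg.hermForm 4 F 2) :=
    @Frm.mk F (Fin 4 → F) (Cfsg.SU 4 F 2) _ _ _ _ act (Cfsg.hermForm 4 F 2) herm_add_left herm_smul_left
      (fun u v h => herm_eq_zero_swap hF h) (herm_sub_right hF) (fun g u v => g.2 u v) (fun u h => herm_nondeg hF h)
  have horb : ∀ v : Fin 4 → F, v ≠ 0 → Cfsg.hermForm 4 F 2 v v = 0 →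
      Nat.card (@orbit (Cfsg.SU 4 F 2) _ act.toSMul v) = 135 := by
    intro v hv hiso
    have h1 : @orbit (Cfsg.SU 4 F 2) _ act.toSMul v = {w | Cfsg.hermForm 4 F 2 w w = 0} \ {0} := by
      ext w
      refine ⟨fun ⟨g, hg⟩ => ?_, fun ⟨hw1, hw2⟩ => ?_⟩
      · have hg' : g • v = w := hg
        refine ⟨?_, fun hw => ?_⟩
        · show Cfsg.hermForm 4 F 2 w w = 0
          rw [← hg', hB.inv, hiso]
        · rw [Set.mem_singleton_iff] at hw
          rw [hw] at hg'
          exact hv ((smul_eq_zero_iff_eq g).1 hg')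
      · obtain ⟨g, -, hg⟩ := exists_map_iso hF (k := 4) (n := 4) (by norm_num) le_rfl
          (mem_coordSub_top v) (mem_coordSub_top w) hv hw2 hiso hw1
        exact ⟨g, hg⟩
    have h2 := S0285.result hF 4
    rw [if_pos (by decide)] at h2
    have h3 : ({w | Cfsg.hermForm 4 F 2 w w = 0} : Set (Fin 4 → F)).ncard = 136 := by
      rw [← Nat.card_coe_set_eq]
      exact h2
    rw [h1, Nat.card_coe_set_eq, Set.ncard_sdiff_singleton_of_mem, h3]
    show Cfsg.hermForm 4 F 2 0 0 = 0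
    exact herm_zero_left 0
  refine @core_psu F (Fin 4 → F) (Cfsg.SU 4 F 2) _ _ _ _ _ _ _ act hcomm hfaith (Cfsg.hermForm 4 F 2)
    (M.comap (QuotientGroup.mk' (Subgroup.center (Cfsg.SU 4 F 2)))) Q hB hF' _ hcV horb hQ hQp hMQ ?_
  rw [Subgroup.index_comap_of_surjective M (QuotientGroup.mk'_surjective _)]
  exact not_sq_dvd hsq Nat.prime_three

end psu

end Cfsg.Agent.H686.SqSmall
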