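import Mathlib

/-!
# Subgroups of square-free index: orbit counting, fixed spaces of `p`-subgroups, isotropic subspaces (helper686)

* `orbit_dvd` : `M ≤ G`, `r ^ 2 ∤ |G : M|`, `Y` an `M`-invariant set all of whose `G`-orbits have length divisible by
  `r ^ (a + 1)`: `r ^ a ∣ |Y|`;
* `exists_pgroup` : lift of a normalised `p`-subgroup through a central extension;
* `exists_isotropic` : a subgroup normalising a nontrivial `p`-subgroup leaves invariant a nonzero totally isotropic
  subspace.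
-/

set_option autoImplicit false
set_option linter.unusedSectionVars false

namespace Cfsg.Agent.H686.SqGen

open MulAction

theorem pow_dvd_of_mul {r a A B : ℕ} (hr : r.Prime) (hA : ¬ r ^ 2 ∣ A) (h : r ^ (a + 1) ∣ A * B) : r ^ a ∣ B := by
  by_cases h1 : r ∣ A
  · obtain ⟨A', rfl⟩ := h1
    have h2 : ¬ r ∣ A' := fun h => hA (by rw [pow_two]; exact Nat.mul_dvd_mul_left r h)
    rw [pow_succ', mul_assoc] at h
    have h3 := Nat.dvd_of_mul_dvd_mul_left hr.pos h
    exact (((Nat.Prime.coprime_iff_not_dvd hr).2 h2).pow_left a).dvd_of_dvd_mul_left h3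
  · exact (((Nat.Prime.coprime_iff_not_dvd hr).2 h1).pow_left a).dvd_of_dvd_mul_left
      ((pow_dvd_pow r (Nat.le_succ a)).trans h)

theorem dvd_card_of_orbits {M X : Type*} [Group M] [MulAction M X] [Finite X] {n : ℕ}
    (h : ∀ x : X, n ∣ Nat.card (orbit M x)) : n ∣ Nat.card X := by
  classical
  have : Fintype (orbitRel.Quotient M X) := Fintype.ofFinite _
  rw [Nat.card_congr (selfEquivSigmaOrbits M X), Nat.card_sigma]
  exact Finset.dvd_sum fun ω _ => h _

/-- the action on an invariant set -/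
@[reducible] def setAct {G X : Type*} [Group G] [MulAction G X] (M : Subgroup G) (Y : Set X)
    (hinv : ∀ m ∈ M, ∀ y ∈ Y, m • y ∈ Y) : MulAction M Y where
  smul m y := ⟨(m : G) • (y : X), hinv m m.2 y y.2⟩
  one_smul y := Subtype.ext (one_smul G (y : X))
  mul_smul a b y := Subtype.ext (mul_smul (a : G) (b : G) (y : X))

theorem orbit_dvd {G X : Type*} [Group G] [Finite G] [MulAction G X] {M : Subgroup G} {r a : ℕ} (hr : r.Prime)
    (hM : ¬ r ^ 2 ∣ M.index) (Y : Set X) [Finite Y] (hinv : ∀ m ∈ M, ∀ y ∈ Y, m • y ∈ Y)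
    (hN : ∀ y ∈ Y, r ^ (a + 1) ∣ Nat.card (orbit G y)) : r ^ a ∣ Nat.card Y := by
  let : MulAction M Y := setAct M Y hinv
  refine dvd_card_of_orbits (M := M) fun y => ?_
  have h1 : (stabilizer M y).index = Nat.card (orbit M y) := index_stabilizer M y
  have h2 : (stabilizer G (y : X)).index = Nat.card (orbit G (y : X)) := index_stabilizer G (y : X)
  have h3 : stabilizer M y = (stabilizer G (y : X)).subgroupOf M := by
    ext m
    rw [mem_stabilizer_iff, Subgroup.mem_subgroupOf, mem_stabilizer_iff, Subtype.ext_iff]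
    rfl
  have h4 : (stabilizer G (y : X)).index ∣ (stabilizer G (y : X) ⊓ M).index := Subgroup.index_dvd_of_le inf_le_left
  have h5 : (stabilizer G (y : X) ⊓ M).index = (stabilizer G (y : X)).relIndex M * M.index := by
    rw [← Subgroup.inf_relIndex_right]
    exact (Subgroup.relIndex_mul_index inf_le_right).symm
  have h6 : (stabilizer G (y : X)).relIndex M = Nat.card (orbit M y) := by
    rw [← h1, h3]; rfl
  rw [h2, h5, h6, mul_comm] at h4
  exact pow_dvd_of_mul hr hM ((hN y y.2).trans h4)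

/-- a `p`-group has as many fixed points as points, modulo `p` -/
theorem card_modEq {G X : Type*} [Group G] [MulAction G X] {p : ℕ} [Fact p.Prime] {Q : Subgroup G}
    (hQ : IsPGroup p Q) (Y : Set X) [Finite Y] (hinv : ∀ m ∈ Q, ∀ y ∈ Y, m • y ∈ Y) :
    Nat.card Y ≡ Nat.card {y : X | y ∈ Y ∧ ∀ g ∈ Q, g • y = y} [MOD p] := by
  let : MulAction Q Y := setAct Q Y hinv
  have h1 := hQ.card_modEq_card_fixedPoints Y
  refine h1.trans ?_
  have h2 : Nat.card (fixedPoints Q Y) = Nat.card {y : X | y ∈ Y ∧ ∀ g ∈ Q, g • y = y} := by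
    refine Nat.card_congr ⟨fun y => ⟨y.1.1, y.1.2, fun g hg => ?_⟩, fun y => ⟨⟨y.1, y.2.1⟩, fun g => ?_⟩,
      fun _ => rfl, fun _ => rfl⟩
    · exact congrArg Subtype.val (y.2 ⟨g, hg⟩)
    · exact Subtype.ext (y.2.2 g.1 g.2)
  rw [h2]

/-- an element of prime order `r` -/
theorem card_modEq_of_order {G X : Type*} [Group G] [MulAction G X] {r : ℕ} [hr : Fact r.Prime] {x : G}
    (hx : orderOf x = r) (Y : Set X) [Finite Y] (hinv : ∀ y ∈ Y, x • y ∈ Y) :
    Nat.card Y ≡ Nat.card {y : X | y ∈ Y ∧ x • y = y} [MOD r] := by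
  have hfo : IsOfFinOrder x := orderOf_pos_iff.1 (by rw [hx]; exact hr.out.pos)
  have hQ : IsPGroup r (Subgroup.zpowers x) := by
    refine IsPGroup.of_card (n := 1) ?_
    rw [Nat.card_zpowers, hx, pow_one]
  have hpow : ∀ n : ℕ, ∀ y ∈ Y, x ^ n • y ∈ Y := by
    intro n
    induction n with
    | zero => intro y hy; rwa [pow_zero, one_smul]
    | succ n ih => intro y hy; rw [pow_succ', mul_smul]; exact hinv _ (ih y hy)
  have hfix : ∀ n : ℕ, ∀ y : X, x • y = y → x ^ n • y = y := by
    intro n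
    induction n with
    | zero => intro y hy; rw [pow_zero, one_smul]
    | succ n ih => intro y hy; rw [pow_succ', mul_smul, ih y hy, hy]
  have h1 := card_modEq hQ Y (by
    intro m hm y hy
    obtain ⟨n, rfl⟩ := hfo.mem_powers_iff_mem_zpowers.2 hm
    exact hpow n y hy)
  refine h1.trans ?_
  have h2 : {y : X | y ∈ Y ∧ ∀ g ∈ Subgroup.zpowers x, g • y = y} = {y : X | y ∈ Y ∧ x • y = y} := by
    ext y
    refine ⟨fun h => ⟨h.1, h.2 x (Subgroup.mem_zpowers x)⟩, fun h => ⟨h.1, fun g hg => ?_⟩⟩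
    obtain ⟨n, rfl⟩ := hfo.mem_powers_iff_mem_zpowers.2 hg
    exact hfix n y h.2
  rw [h2]

/-- lift a `p`-subgroup normalised by `M` through a central extension -/
theorem exists_pgroup {G T : Type*} [Group G] [Finite G] [Group T] (f : G →* T) (hf : Function.Surjective f)
    (hker : f.ker ≤ Subgroup.center G) {p : ℕ} [hp : Fact p.Prime] {M V : Subgroup T} (hV : V ≠ ⊥)
    (hVp : IsPGroup p V) (hMV : M ≤ Subgroup.normalizer (V : Set T)) :
    ∃ Q : Subgroup G, Q ≠ ⊥ ∧ IsPGroup p Q ∧ M.comap f ≤ Subgroup.normalizer (Q : Set G) := by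
  classical
  have : Finite T := Finite.of_surjective f hf
  set N : Subgroup G := V.comap f with hN
  -- `N` is nilpotent
  let g : N →* V := (f.comp N.subtype).codRestrict V fun x => x.2
  have hgsurj : Function.Surjective g := by
    rintro ⟨v, hv⟩
    obtain ⟨x, hx⟩ := hf v
    exact ⟨⟨x, show f x ∈ V by rw [hx]; exact hv⟩, Subtype.ext hx⟩
  have hgker : g.ker ≤ Subgroup.center N := by
    intro x hx
    rw [Subgroup.mem_center_iff]
    intro y
    have h1 : f x.1 = 1 := congrArg Subtype.val (MonoidHom.mem_ker.1 hx)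
    have h2 := Subgroup.mem_center_iff.1 (hker (MonoidHom.mem_ker.2 h1)) y.1
    exact Subtype.ext h2
  have hVnil : Group.IsNilpotent V := hVp.isNilpotent
  have hNnil : Group.IsNilpotent N := Subgroup.isNilpotent_of_ker_le_center g hgker
  obtain ⟨P⟩ : Nonempty (Sylow p N) := inferInstance
  have hPn : (P : Subgroup N).Normal := inferInstance
  refine ⟨(P : Subgroup N).map N.subtype, ?_, P.isPGroup'.map _, ?_⟩
  · intro hbot
    have h1 : (P : Subgroup N) = ⊥ := (Subgroup.map_eq_bot_iff_of_injective _ N.subtype_injective).1 hbot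
    have h2 : p ∣ Nat.card V := by
      obtain ⟨n, hn⟩ := IsPGroup.iff_card.1 hVp
      rcases Nat.eq_zero_or_pos n with rfl | hn0
      · exact absurd ((Subgroup.card_eq_one (H := V)).1 (by rw [hn, pow_zero])) hV
      · rw [hn]; exact dvd_pow_self p hn0.ne'
    have h3 : p ∣ Nat.card N := h2.trans (Subgroup.card_dvd_of_surjective g hgsurj)
    exact P.ne_bot_of_dvd_card h3 h1
  · intro m hm
    have hm' : m ∈ Subgroup.normalizer (N : Set G) := by
      rw [Subgroup.mem_normalizer_iff]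
      intro x
      have h1 := Subgroup.mem_normalizer_iff.1 (hMV (Subgroup.mem_comap.1 hm)) (f x)
      change f x ∈ V ↔ f (m * x * m⁻¹) ∈ V
      rw [map_mul, map_mul, map_inv]
      exact h1
    -- an element of `N` is in `P` iff it has `p`-power order
    have key : ∀ x : N, x ∈ (P : Subgroup N) ↔ ∃ k : ℕ, orderOf (x : G) = p ^ k := by
      intro x
      constructor
      · intro hx
        obtain ⟨k, hk⟩ := IsPGroup.iff_orderOf.1 P.isPGroup' ⟨x, hx⟩
        refine ⟨k, ?_⟩
        rw [← hk, Subgroup.orderOf_coe, ← Subgroup.orderOf_mk x hx]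
      · rintro ⟨k, hk⟩
        have h1 : IsPGroup p (Subgroup.zpowers x) := by
          refine IsPGroup.of_card (n := k) ?_
          rw [Nat.card_zpowers, ← hk, Subgroup.orderOf_coe]
        have h2 : IsPGroup p ((Subgroup.zpowers x) ⊔ (P : Subgroup N) : Subgroup N) :=
          h1.to_sup_of_normal_right P.isPGroup'
        have h3 : (P : Subgroup N) = Subgroup.zpowers x ⊔ (P : Subgroup N) :=
          P.is_maximal' h2 le_sup_right |>.symm
        rw [h3]
        exact (le_sup_left : Subgroup.zpowers x ≤ _) (Subgroup.mem_zpowers x)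
    have hmem : ∀ x : G, x ∈ (P : Subgroup N).map N.subtype ↔ x ∈ N ∧ ∃ k : ℕ, orderOf x = p ^ k := by
      intro x
      constructor
      · rintro ⟨y, hy, rfl⟩
        exact ⟨y.2, (key y).1 hy⟩
      · rintro ⟨h1, h2⟩
        exact ⟨⟨x, h1⟩, (key ⟨x, h1⟩).2 h2, rfl⟩
    rw [Subgroup.mem_normalizer_iff]
    intro x
    have h5 : orderOf (m * x * m⁻¹) = orderOf x := by
      have := orderOf_injective (MulAut.conj m).toMonoidHom (MulAut.conj m).injective x
      simpa using this
    rw [hmem, hmem, h5, Subgroup.mem_normalizer_iff.1 hm' x]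

/-! ### linear actions -/

section Lin

variable {F V G : Type*} [Field F] [AddCommGroup V] [Module F V] [Group G] [DistribMulAction G V] [SMulCommClass G F V]

/-- fixed points of a subgroup -/
def fix (F : Type*) {V G : Type*} [Field F] [AddCommGroup V] [Module F V] [Group G] [DistribMulAction G V]
    [SMulCommClass G F V] (Q : Subgroup G) : Submodule F V where
  carrier := {v | ∀ g ∈ Q, g • v = v}
  add_mem' {a b} ha hb g hg := by rw [smul_add, ha g hg, hb g hg]
  zero_mem' g _ := smul_zero g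
  smul_mem' c v hv g hg := by rw [smul_comm, hv g hg]

theorem mem_fix {Q : Subgroup G} {v : V} : v ∈ fix F Q ↔ ∀ g ∈ Q, g • v = v := Iff.rfl

theorem fix_smul_mem {Q : Subgroup G} {m : G} (hm : m ∈ Subgroup.normalizer (Q : Set G)) {v : V}
    (hv : v ∈ fix F Q) : m • v ∈ fix F Q := by
  intro g hg
  have h1 : m⁻¹ * g * m ∈ Q := by
    rw [Subgroup.mem_normalizer_iff.1 hm]
    have : m * (m⁻¹ * g * m) * m⁻¹ = g := by group
    rwa [this]
  calc g • m • v = m • ((m⁻¹ * g * m) • v) := by rw [smul_smul, smul_smul]; congr 1; group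
    _ = m • v := by rw [hv _ h1]

/-- a `p`-group fixes a nonzero vector in every nonzero invariant subspace -/
theorem exists_fixed [Finite V] {p : ℕ} [hp : Fact p.Prime] [CharP F p] {Q : Subgroup G} (hQ : IsPGroup p Q)
    {W : Submodule F V} (hW : W ≠ ⊥) (hinv : ∀ g ∈ Q, ∀ w ∈ W, g • w ∈ W) : ∃ w ∈ W, w ≠ 0 ∧ w ∈ fix F Q := by
  have h1 := card_modEq hQ (W : Set V) hinv
  have h2 : p ∣ Nat.card W := by
    obtain ⟨w, hw, hw0⟩ := W.ne_bot_iff.1 hW
    have h3 : addOrderOf (⟨w, hw⟩ : W) = p := by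
      refine addOrderOf_eq_prime ?_ fun h => hw0 (congrArg Subtype.val h)
      rw [← Nat.cast_smul_eq_nsmul F, CharP.cast_eq_zero, zero_smul]
    rw [← h3]
    exact addOrderOf_dvd_natCard _
  have h3 : p ∣ Nat.card {y : V | y ∈ (W : Set V) ∧ ∀ g ∈ Q, g • y = y} := by
    have h4 : Nat.card (W : Set V) = Nat.card W := rfl
    rw [h4] at h1
    exact (Nat.modEq_zero_iff_dvd.1 (h1.symm.trans (Nat.modEq_zero_iff_dvd.2 h2)))
  have h4 : 1 < Nat.card {y : V | y ∈ (W : Set V) ∧ ∀ g ∈ Q, g • y = y} := by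
    have h5 : 0 < Nat.card {y : V | y ∈ (W : Set V) ∧ ∀ g ∈ Q, g • y = y} :=
      Nat.card_pos_iff.2 ⟨⟨⟨0, W.zero_mem, fun g _ => smul_zero g⟩⟩, inferInstance⟩
    exact hp.out.one_lt.trans_le (Nat.le_of_dvd h5 h3)
  have : Nontrivial {y : V | y ∈ (W : Set V) ∧ ∀ g ∈ Q, g • y = y} := Finite.one_lt_card_iff_nontrivial.1 h4
  obtain ⟨⟨y, hy1, hy2⟩, hy0⟩ := exists_ne
    (⟨0, W.zero_mem, fun g _ => smul_zero g⟩ : {y : V | y ∈ (W : Set V) ∧ ∀ g ∈ Q, g • y = y})
  exact ⟨y, hy1, fun h => hy0 (Subtype.ext h), hy2⟩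

theorem fix_ne_top [FaithfulSMul G V] {Q : Subgroup G} (hQ : Q ≠ ⊥) : fix F Q ≠ (⊤ : Submodule F V) := by
  intro h
  obtain ⟨g, hg, hg1⟩ := Q.ne_bot_iff_exists_ne_one.1 hQ |> fun ⟨g, hg⟩ => (⟨g.1, g.2, fun h => hg (Subtype.ext h)⟩ :
    ∃ g : G, g ∈ Q ∧ g ≠ 1)
  refine hg1 (eq_of_smul_eq_smul (α := V) fun v => ?_)
  have hv : v ∈ fix F Q := by rw [h]; trivial
  rw [hv g hg, one_smul]

/-- a reflexive sesquilinear form, linear in the first variable, invariant and nondegenerate -/
structure Frm (F : Type*) {V : Type*} (G : Type*) [Field F] [AddCommGroup V] [Module F V] [Group G]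
    [DistribMulAction G V] (B : V → V → F) : Prop where
  add : ∀ u v w, B (u + v) w = B u w + B v w
  smul : ∀ (c : F) u w, B (c • u) w = c * B u w
  refl : ∀ u v, B u v = 0 → B v u = 0
  sub_right : ∀ u v w, B u (v - w) = B u v - B u w
  inv : ∀ (g : G) u v, B (g • u) (g • v) = B u v
  nondeg : ∀ u, (∀ v, B u v = 0) → u = 0

variable {B : V → V → F}

/-- the orthogonal space -/
def perp (hB : Frm F G B) (W : Submodule F V) : Submodule F V where
  carrier := {v | ∀ w ∈ W, B v w = 0}
  add_mem' {a b} ha hb w hw := by rw [hB.add, ha w hw, hb w hw, add_zero]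
  zero_mem' w _ := by
    have := hB.smul 0 0 w
    rwa [zero_smul, zero_mul] at this
  smul_mem' c v hv w hw := by rw [hB.smul, hv w hw, mul_zero]

theorem mem_perp {hB : Frm F G B} {W : Submodule F V} {v : V} : v ∈ perp hB W ↔ ∀ w ∈ W, B v w = 0 := Iff.rfl

/-- `B (·, v)` -/
def lin (hB : Frm F G B) (v : V) : V →ₗ[F] F where
  toFun u := B u v
  map_add' a b := hB.add a b v
  map_smul' c a := hB.smul c a v

theorem card_dual {W : Type*} [Finite F] [AddCommGroup W] [Module F W] [Finite W] :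
    Nat.card (Module.Dual F W) = Nat.card W := by
  have : Module.Finite F W := Module.Finite.of_finite
  obtain ⟨e⟩ := Basis.linearEquiv_dual_iff_finiteDimensional.2 (inferInstance : Module.Finite F W)
  exact Nat.card_congr e.symm.toEquiv

theorem perp_ne_bot [Finite F] [Finite V] (hB : Frm F G B) {W : Submodule F V} (hW : W ≠ ⊤) : perp hB W ≠ ⊥ := by
  intro h
  -- `v ↦ B (·, v)` restricted to `W` is injective
  let f : V → Module.Dual F W := fun v => (lin hB v).comp W.subtype
  have hf : Function.Injective f := by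
    intro v v' hvv
    have h1 : v - v' ∈ perp hB W := by
      intro w hw
      apply hB.refl
      rw [hB.sub_right]
      have h2 : B w v = B w v' := LinearMap.congr_fun hvv ⟨w, hw⟩
      rw [h2, sub_self]
    rw [h, Submodule.mem_bot] at h1
    exact sub_eq_zero.1 h1
  have h1 : Nat.card V ≤ Nat.card W := by
    have : Finite (Module.Dual F W) := Module.finite_of_finite F
    calc Nat.card V ≤ Nat.card (Module.Dual F W) := Nat.card_le_card_of_injective f hf
      _ = Nat.card W := card_dual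
  apply hW
  have h2 : Function.Surjective W.subtype := by
    have h3 : Function.Bijective W.subtype :=
      (Nat.bijective_iff_injective_and_card _).2 ⟨W.subtype_injective, le_antisymm
        (Nat.card_le_card_of_injective _ W.subtype_injective) h1⟩
    exact h3.2
  rw [eq_top_iff]
  intro v _
  obtain ⟨w, rfl⟩ := h2 v
  exact w.2

theorem card_isotropic_le [Finite F] [Finite V] (hB : Frm F G B) {R : Submodule F V}
    (hR : ∀ v ∈ R, ∀ w ∈ R, B v w = 0) : Nat.card R ^ 2 ≤ Nat.card V := by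
  let f : R → Module.Dual F (V ⧸ R) := fun r => R.liftQ (lin hB r) (fun v hv => hR v hv r r.2)
  have hf : Function.Injective f := by
    intro r r' hrr
    have h1 : (r : V) - r' = 0 := by
      apply hB.nondeg
      intro v
      apply hB.refl
      rw [hB.sub_right]
      have h2 : B v r = B v r' := LinearMap.congr_fun hrr (R.mkQ v)
      rw [h2, sub_self]
    exact Subtype.ext (sub_eq_zero.1 h1)
  have : Finite (V ⧸ R) := Quotient.finite _
  have : Finite (Module.Dual F (V ⧸ R)) := Module.finite_of_finite F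
  have h1 : Nat.card R ≤ Nat.card (V ⧸ R) := by
    calc Nat.card R ≤ Nat.card (Module.Dual F (V ⧸ R)) := Nat.card_le_card_of_injective f hf
      _ = Nat.card (V ⧸ R) := card_dual
  have h2 : Nat.card V = Nat.card R * Nat.card (V ⧸ R) := by
    rw [Submodule.card_eq_card_quotient_mul_card R]
  rw [h2, pow_two]
  exact Nat.mul_le_mul_left _ h1

/-- a subgroup normalising a nontrivial `p`-subgroup leaves a nonzero totally isotropic subspace invariant -/
theorem exists_isotropic [Finite F] [Finite V] [FaithfulSMul G V] {p : ℕ} [hp : Fact p.Prime] [CharP F p]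
    (hB : Frm F G B) {M Q : Subgroup G} (hQ : Q ≠ ⊥) (hQp : IsPGroup p Q)
    (hMQ : M ≤ Subgroup.normalizer (Q : Set G)) :
    ∃ R : Submodule F V, R ≠ ⊥ ∧ (∀ m ∈ M, ∀ v ∈ R, m • v ∈ R) ∧ (∀ v ∈ R, ∀ w ∈ R, B v w = 0) ∧
      Nat.card R ^ 2 ≤ Nat.card V := by
  set W : Submodule F V := fix F Q
  have hiso : ∀ v ∈ W ⊓ perp hB W, ∀ w ∈ W ⊓ perp hB W, B v w = 0 := fun v hv w hw => hv.2 w hw.1
  refine ⟨W ⊓ perp hB W, ?_, ?_, hiso, card_isotropic_le hB hiso⟩
  · obtain ⟨w, hw1, hw0, hw2⟩ := exists_fixed hQp (perp_ne_bot hB (fix_ne_top (F := F) (V := V) hQ)) (by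
      intro g hg w hw v hv
      have h1 := hB.inv g w v
      rw [hv g hg] at h1
      rw [h1]
      exact hw v hv)
    exact (Submodule.ne_bot_iff _).2 ⟨w, ⟨hw2, hw1⟩, hw0⟩
  · intro m hm v hv
    refine ⟨fix_smul_mem (hMQ hm) hv.1, fun w hw => ?_⟩
    have h1 : m⁻¹ • w ∈ W := fix_smul_mem (inv_mem (hMQ hm)) hw
    have h2 := hB.inv m v (m⁻¹ • w)
    rw [smul_inv_smul] at h2
    rw [h2]
    exact hv.2 _ h1

end Lin

end Cfsg.Agent.H686.SqGen
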