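import Mathlib
import Cfsg.Agent.H984.SLTable

/-!
# The characters of degrees `(q ± 1) / 2` of `SL₂(q)`, `q` odd, have opposite central characters
-/

set_option autoImplicit false
set_option linter.unusedSectionVars false

namespace Cfsg.Agent.H686.SLHalf

open Matrix Cfsg Cfsg.Agent.H984.SLTwo

variable {F : Type*} [Field F] [DecidableEq F] [Fintype F]

local notation "SL" => Matrix.SpecialLinearGroup (Fin 2) F
local notation "M₂" => Matrix (Fin 2) (Fin 2) F

theorem halves_plus (h2 : ringChar F ≠ 2) {m : ℕ} (hm : Fintype.card F = 2 * m + 1) (h5 : 2 ≤ m) {ψ : SL → ℂ}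
    (hψ : IsIrrCharacter SL ψ) (hz : ∀ g, ψ (z0 * g) = ψ g) (hd : ψ 1 = ((m + 1 : ℕ) : ℂ)) : Even m := by
  have hcase : ∀ a : Fˣ, a⁻¹ ≠ a → ∀ x, (IsSquare (a : F) → ψ (upp a x) = 1) ∧
      (¬ IsSquare (a : F) → ψ (upp a x) = -1) := by
    have cmp : ∀ n : ℕ, ψ 1 = ((n : ℕ) : ℂ) → n = m + 1 := by
      intro n hn
      rw [hd] at hn
      exact_mod_cast hn.symm
    rcases classify h2 hm hψ with ⟨α, -, -, h⟩ | ⟨-, h⟩ | ⟨-, h⟩ | ⟨-, -, h⟩ | ⟨-, h⟩
    · have := cmp _ h; omega
    · have := cmp _ h; omega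
    · have := cmp _ h; omega
    · exact h
    · rcases h with ⟨h, -⟩ | ⟨h, -⟩
      · have := cmp _ h; omega
      · have := cmp _ h; omega
  -- a unit with `a² ≠ 1`
  obtain ⟨a, ha⟩ : ∃ a : Fˣ, a⁻¹ ≠ a := by
    by_contra hcon
    push Not at hcon
    have h3 : ∀ a : Fˣ, a = 1 ∨ a = -1 := by
      intro a
      have h4 : a * a = 1 := by
        have := hcon a
        rw [inv_eq_iff_mul_eq_one] at this
        exact this
      have h5 : (a : F) * a = 1 := by
        have := congrArg Units.val h4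
        simpa using this
      rcases mul_self_eq_one_iff.1 h5 with h | h
      · left; exact Units.ext h
      · right; exact Units.ext (by simpa using h)
    have h6 : Fintype.card Fˣ ≤ 2 := by
      have : (Finset.univ : Finset Fˣ) ⊆ {1, -1} := by
        intro x _
        rcases h3 x with rfl | rfl <;> simp
      calc Fintype.card Fˣ = (Finset.univ : Finset Fˣ).card := rfl
        _ ≤ ({1, -1} : Finset Fˣ).card := Finset.card_le_card this
        _ ≤ 2 := Finset.card_le_two
    rw [Fintype.card_units] at h6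
    omega
  have hna : (-a)⁻¹ ≠ -a := by
    intro h
    apply ha
    have : (-a)⁻¹ = -a⁻¹ := by rw [inv_neg]
    rw [this] at h
    exact neg_injective h
  have h1 := hcase a ha 0
  have h3 := hcase (-a) hna (-0)
  rw [← z0_mul_upp, hz] at h3
  have hsq : IsSquare (-1 : F) := by
    have hne1 : (1 : ℂ) ≠ -1 := by norm_num
    have key : quadraticChar F (-(a : F)) = quadraticChar F (a : F) := by
      by_cases h : IsSquare (a : F)
      · have h7 : IsSquare ((-a : Fˣ) : F) := by
          by_contra h8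
          exact hne1 ((h1.1 h).symm.trans (h3.2 h8))
        rw [(quadraticChar_one_iff_isSquare a.ne_zero).2 h,
          (quadraticChar_one_iff_isSquare (neg_ne_zero.2 a.ne_zero)).2 (by simpa using h7)]
      · have h7 : ¬ IsSquare ((-a : Fˣ) : F) := by
          intro h8
          exact hne1 ((h3.1 h8).symm.trans (h1.2 h))
        rw [quadraticChar_neg_one_iff_not_isSquare.2 h,
          quadraticChar_neg_one_iff_not_isSquare.2 (by simpa using h7)]
    have h8 : quadraticChar F (-1 : F) = 1 := by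
      have h9 : quadraticChar F (-(a : F)) = quadraticChar F (-1) * quadraticChar F (a : F) := by
        rw [← map_mul, neg_one_mul]
      rw [h9] at key
      have h10 : quadraticChar F (a : F) ≠ 0 := by
        rw [Ne, quadraticChar_eq_zero_iff]
        exact a.ne_zero
      exact mul_right_cancel₀ h10 (by rw [key, one_mul])
    exact (quadraticChar_one_iff_isSquare (neg_ne_zero.2 one_ne_zero)).1 h8
  have h9 := (FiniteField.isSquare_neg_one_iff (F := F)).1 hsq
  rw [hm] at h9
  rw [Nat.even_iff]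
  omega

theorem halves_minus (h2 : ringChar F ≠ 2) {m : ℕ} (hm : Fintype.card F = 2 * m + 1) (h5 : 2 ≤ m) {ψ : SL → ℂ}
    (hψ : IsIrrCharacter SL ψ) (hz : ∀ g, ψ (z0 * g) = ψ g) (hd : ψ 1 = ((m : ℕ) : ℂ)) : Odd m := by
  have hcase : ∀ g : SL, Ell (g : M₂) → (g ^ (m + 1) = 1 → ψ g = -1) ∧ (g ^ (m + 1) ≠ 1 → ψ g = 1) := by
    have cmp : ∀ n : ℕ, ψ 1 = ((n : ℕ) : ℂ) → n = m := by
      intro n hn
      rw [hd] at hn
      exact_mod_cast hn.symm
    rcases classify h2 hm hψ with ⟨α, -, -, h⟩ | ⟨-, h⟩ | ⟨-, h⟩ | ⟨h, -, -⟩ | ⟨-, h⟩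
    · have := cmp _ h; omega
    · have := cmp _ h; omega
    · have := cmp _ h; omega
    · have := cmp _ h; omega
    · rcases h with ⟨h, -⟩ | ⟨-, h⟩
      · have := cmp _ h; omega
      · exact h
  rw [← Nat.not_even_iff_odd]
  intro hev
  obtain ⟨g, hg⟩ := exists_ell (F := F)
  have hmem := self_mem_cent g
  have hz0 := z0_mem g
  have hNS : NS ((z0 * g : SL) : M₂) := by
    by_contra hns
    have h6 : g = z0 * (z0 * g) := by rw [← mul_assoc, z0_mul_self, one_mul]
    rcases scalar_cases hns with h | h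
    · rw [upp_one_zero] at h
      rw [h, mul_one] at h6
      exact not_NS_z0 (h6 ▸ hg.NS)
    · have h7 : g = 1 := by
        rw [h6, h]; exact z0_mul_self
      have h8 : ¬ NS ((1 : SL) : M₂) := by
        rw [← upp_one_zero]; exact not_NS_upp inv_one
      exact h8 (h7 ▸ hg.NS)
  have hell := ell_of_mem_cent hg (mul_mem hz0 hmem) hNS
  have hpow : g ^ (m + 1) * g ^ (m + 1) = 1 := by
    have h7 : (⟨g, hmem⟩ : Subgroup.centralizer ({g} : Set SL)) ^ Nat.card (Subgroup.centralizer ({g} : Set SL)) = 1 :=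
      pow_card_eq_one'
    rw [card_cent_two_mul hg hm, two_mul, pow_add] at h7
    exact congrArg Subtype.val h7
  have hcases : g ^ (m + 1) = 1 ∨ g ^ (m + 1) = z0 := by
    have h8 : ¬ NS ((g ^ (m + 1) : SL) : M₂) := by
      intro hns
      exact ne_inv_of_NS hg (pow_mem hmem _) hns (eq_inv_of_mul_eq_one_left hpow)
    rcases scalar_cases h8 with h | h
    · left; rw [h, upp_one_zero]
    · right; exact h
  have hzpow : (z0 * g) ^ (m + 1) = z0 * g ^ (m + 1) := by
    rw [(show Commute z0 g from z0_comm g).mul_pow, z0_pow_odd hev.add_one]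
  have hne : (z0 : SL) ≠ 1 := z0_ne_one h2
  have hne1 : (1 : ℂ) ≠ -1 := by norm_num
  rcases hcases with h | h
  · have e1 := (hcase g hg).1 h
    have e2 := (hcase _ hell).2 (by rw [hzpow, h, mul_one]; exact hne)
    rw [hz, e1] at e2
    exact hne1 e2.symm
  · have e1 := (hcase g hg).2 (by rw [h]; exact hne)
    have e2 := (hcase _ hell).1 (by rw [hzpow, h, z0_mul_self])
    rw [hz, e1] at e2
    exact hne1 e2

end Cfsg.Agent.H686.SLHalf
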