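import Mathlib
import Cfsg.Agent.H686.CharKit
import Cfsg.Agent.Blocks.Basic
import Cfsg.Agent.Blocks.ClassScalar
import Cfsg.Agent.LieClassical.FieldTransfer
import Cfsg.Agent.H525.PslK
import Cfsg.Agent.H92.KTools
import Cfsg.Agent.H67.PCov

/-!
# Degrees of the characters of a perfect central extension of `PSL₂(9)` by a group of order 3

`dvd_of_perfect`: in a perfect group a central element of prime order `p` outside the kernel of `θ` gives `p ∣ θ(1)`.

`exists_bad_degree`: a perfect central extension of `PSL₂(9)` with kernel of order 3 has an irreducible character of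
degree divisible by 3 and not 3 or 9.
-/

set_option autoImplicit false

namespace Cfsg.Agent.H686.SLNine

open Cfsg Cfsg.Agent.H686.CharKit Cfsg.Agent.H67
open Cfsg.Agent.Characters

theorem dvd_of_perfect {L : Type*} [Group L] (hL : commutator L = ⊤) {c : L} (hc : ∀ x : L, c * x = x * c)
    {p : ℕ} (hp : p.Prime) (hcp : c ^ p = 1) {θ : L → ℂ} (hθ : IsIrrCharacter L θ) (h : θ c ≠ θ 1) :
    p ∣ charDegree θ := by
  have hdeg := Cfsg.Agent.Blocks.Basic.irr_one_eq_charDegree hθ
  obtain ⟨n, ρ, hρ, rfl⟩ := hθ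
  obtain ⟨ω, hω⟩ := Cfsg.Agent.Blocks.ClassScalar.exists_smul_of_commute ρ hρ (ρ c) (fun g => by
    rw [← map_mul, ← map_mul, hc])
  have h1 : ρ.character 1 = n := by
    rw [Representation.char_one, Module.finrank_fin_fun]
  have h2 : ρ.character c = ω * n := by
    show LinearMap.trace ℂ _ (ρ c) = _
    rw [hω, map_smul, LinearMap.trace_one, Module.finrank_fin_fun, smul_eq_mul]
  have hn : charDegree ρ.character = n := by
    rw [h1] at hdeg
    exact_mod_cast hdeg.symm
  have hω1 : ω ≠ 1 := by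
    rintro rfl
    apply h
    rw [h1, h2, one_mul]
  have hnpos : n ≠ 0 := by
    rintro rfl
    apply h
    rw [h1, h2]; simp
  have hωp : ω ^ p = 1 := by
    have h3 : (ρ c) ^ p = 1 := by rw [← map_pow, hcp, map_one]
    rw [hω, smul_pow, one_pow] at h3
    have h4 := congrArg (LinearMap.trace ℂ (Fin n → ℂ)) h3
    rw [map_smul, LinearMap.trace_one, Module.finrank_fin_fun, smul_eq_mul] at h4
    have h5 : (n : ℂ) ≠ 0 := Nat.cast_ne_zero.2 hnpos
    exact mul_right_cancel₀ h5 (by rw [h4, one_mul])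
  have hdet : ω ^ n = 1 := by
    let δ : L →* ℂˣ := ((LinearMap.det : Module.End ℂ (Fin n → ℂ) →* ℂ).comp ρ).toHomUnits
    have h3 : δ c = 1 := by
      have h4 : commutator L ≤ δ.ker := Abelianization.commutator_subset_ker δ
      have h5 : c ∈ commutator L := by rw [hL]; trivial
      exact h4 h5
    have h4 : (δ c : ℂ) = LinearMap.det (ρ c) := rfl
    rw [h3, hω, LinearMap.det_smul, Module.finrank_fin_fun, map_one, mul_one, Units.val_one] at h4
    exact h4.symm
  have hord : orderOf ω = p := by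
    have := Fact.mk hp
    exact orderOf_eq_prime hωp hω1
  rw [hn, ← hord]
  exact orderOf_dvd_of_pow_eq_one hdet

/-- numbers -/
theorem arith {a b : ℕ} (h1 : 9 * a + 81 * b = 720) (h2 : a + b ≤ 14) : False := by omega

theorem exists_bad_degree {F : Type*} [Field F] [Fintype F] (hF : Fintype.card F = 9) {L : Type*} [Group L] [Finite L]
    {π : L →* Matrix.ProjectiveSpecialLinearGroup (Fin 2) F} {c : L} (hd : PCov 3 π c)
    (hcard : Nat.card (Matrix.ProjectiveSpecialLinearGroup (Fin 2) F) = 360) :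
    ∃ θ : L → ℂ, IsIrrCharacter L θ ∧ 3 ∣ charDegree θ ∧ charDegree θ ≠ 3 ∧ charDegree θ ≠ 9 := by
  classical
  have : Finite (IrrCharacter L) := Core.finite_irr
  let _ := Fintype.ofFinite (IrrCharacter L)
  let Z : Subgroup L := Subgroup.zpowers c
  have hZc : Z ≤ Subgroup.center L := by rw [show Z = π.ker from hd.ker_eq.symm]; exact hd.ker_le
  have hZn : Z.Normal := by rw [show Z = π.ker from hd.ker_eq.symm]; infer_instance
  have hZ3 : Nat.card Z = 3 := by
    have := hd.card_ker (by norm_num)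
    rwa [hd.ker_eq] at this
  have e : (L ⧸ Z) ≃* Matrix.ProjectiveSpecialLinearGroup (Fin 2) F :=
    (QuotientGroup.quotientMulEquivOfEq hd.ker_eq.symm).trans (QuotientGroup.quotientKerEquivOfSurjective π hd.surj)
  have hQ : Nat.card (L ⧸ Z) = 360 := by rw [Nat.card_congr e.toEquiv, hcard]
  have hL : Nat.card L = 1080 := by
    rw [Subgroup.card_eq_card_quotient_mul_card_subgroup Z, hQ, hZ3]
  have h3 : Fact (Nat.Prime 3) := ⟨by norm_num⟩
  let K : Type := GaloisField 3 2
  let _ : Fintype K := Fintype.ofFinite K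
  have hKc : Fintype.card K = 9 := by
    rw [← Nat.card_eq_fintype_card]
    exact (GaloisField.card 3 2 (by norm_num)).trans (by norm_num)
  let eF : F ≃+* K := FiniteField.ringEquivOfCardEq (by rw [hF, hKc])
  let e' : (L ⧸ Z) ≃* Matrix.ProjectiveSpecialLinearGroup (Fin 2) K :=
    e.trans (Cfsg.Agent.LieClassical.FieldTransfer.pslCongr eF)
  have hodd : Odd (Fintype.card K) := by rw [hKc]; decide
  have hk : Nat.card (ConjClasses (L ⧸ Z)) = 7 := by
    have h1 := Cfsg.Agent.H525.PslK.psl2_odd (F := K) hodd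
    rw [hKc] at h1
    have h2 : Nat.card (ConjClasses (L ⧸ Z)) =
        Nat.card (ConjClasses (Matrix.ProjectiveSpecialLinearGroup (Fin 2) K)) := by
      rw [← Core.card_irr, ← Core.card_irr]
      refine Nat.card_congr (Equiv.ofBijective (fun χ : IrrCharacter (L ⧸ Z) =>
        (⟨(χ : L ⧸ Z → ℂ) ∘ e'.symm.toMonoidHom, Core.isIrr_comp e'.symm.toMonoidHom e'.symm.surjective χ.2⟩ :
          IrrCharacter (Matrix.ProjectiveSpecialLinearGroup (Fin 2) K))) ⟨?_, ?_⟩)
      · intro χ χ' h
        apply Subtype.ext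
        funext x
        have := congrFun (congrArg Subtype.val h) (e' x)
        simpa using this
      · intro χ
        refine ⟨⟨(χ : _ → ℂ) ∘ e'.toMonoidHom, Core.isIrr_comp e'.toMonoidHom e'.surjective χ.2⟩, ?_⟩
        apply Subtype.ext
        funext x
        simp
    omega
  have hkL : Nat.card (IrrCharacter L) ≤ 21 := by
    rw [Core.card_irr]
    have := Cfsg.Agent.H92.KTools.card_le_mul_quotient Z hZc
    rw [hZ3, hk] at this
    exact this
  -- the characters with `Z` in the kernel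
  have hB : Nat.card {χ : IrrCharacter L // Z ≤ chKer χ} = 7 := by
    rw [← Nat.card_congr (inflEquiv Z), Core.card_irr, hk]
  have hBsum : ∑ χ : {χ : IrrCharacter L // Z ≤ chKer χ}, charDegree (χ.1 : L → ℂ) ^ 2 = 360 := by
    have : Finite (IrrCharacter (L ⧸ Z)) := Core.finite_irr
    let _ := Fintype.ofFinite (IrrCharacter (L ⧸ Z))
    rw [← (inflEquiv Z).sum_comp, ← hQ, ← sum_deg_sq (G := L ⧸ Z)]
    refine Finset.sum_congr rfl fun ψ _ => ?_
    have h1 : (charDegree ((inflEquiv Z ψ).1 : L → ℂ) : ℂ) = charDegree (ψ : L ⧸ Z → ℂ) := by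
      rw [charDegree_irr, charDegree_irr]
      rfl
    have h2 : charDegree ((inflEquiv Z ψ).1 : L → ℂ) = charDegree (ψ : L ⧸ Z → ℂ) := by exact_mod_cast h1
    rw [h2]
  have hall := sum_deg_sq (G := L)
  rw [hL] at hall
  have hsplit : ∑ χ : {χ : IrrCharacter L // Z ≤ chKer χ}, charDegree (χ.1 : L → ℂ) ^ 2 +
      ∑ χ : {χ : IrrCharacter L // ¬ Z ≤ chKer χ}, charDegree (χ.1 : L → ℂ) ^ 2 = 1080 := by
    rw [← hall]
    exact Fintype.sum_subtype_add_sum_subtype (fun χ : IrrCharacter L => Z ≤ chKer χ)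
      (fun χ => charDegree (χ : L → ℂ) ^ 2)
  have hcardA : Nat.card {χ : IrrCharacter L // Z ≤ chKer χ} + Nat.card {χ : IrrCharacter L // ¬ Z ≤ chKer χ} ≤ 21 := by
    rw [← Nat.card_sum]
    refine le_trans (le_of_eq ?_) hkL
    exact Nat.card_congr (Equiv.sumCompl _)
  by_contra hcon
  push Not at hcon
  have hdeg : ∀ χ : {χ : IrrCharacter L // ¬ Z ≤ chKer χ},
      charDegree (χ.1 : L → ℂ) = 3 ∨ charDegree (χ.1 : L → ℂ) = 9 := by
    intro χ
    have h1 : (χ.1 : L → ℂ) c ≠ (χ.1 : L → ℂ) 1 := by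
      intro h
      apply χ.2
      rw [Subgroup.zpowers_le]
      exact h
    have h2 := dvd_of_perfect hd.perf hd.cen (by norm_num : Nat.Prime 3) hd.pow χ.1.2 h1
    by_contra h3
    rw [not_or] at h3
    exact h3.2 (hcon _ χ.1.2 h2 h3.1)
  have hsum : ∑ χ : {χ : IrrCharacter L // ¬ Z ≤ chKer χ}, charDegree (χ.1 : L → ℂ) ^ 2 =
      9 * (Finset.univ.filter fun χ : {χ : IrrCharacter L // ¬ Z ≤ chKer χ} => charDegree (χ.1 : L → ℂ) = 3).card +
      81 * (Finset.univ.filter fun χ : {χ : IrrCharacter L // ¬ Z ≤ chKer χ} => ¬ charDegree (χ.1 : L → ℂ) = 3).card := by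
    rw [← Finset.sum_filter_add_sum_filter_not Finset.univ
      (fun χ : {χ : IrrCharacter L // ¬ Z ≤ chKer χ} => charDegree (χ.1 : L → ℂ) = 3)]
    congr 1
    · rw [Finset.sum_congr rfl (g := fun _ => 9) (fun χ hχ => by rw [(Finset.mem_filter.1 hχ).2]; norm_num),
        Finset.sum_const, smul_eq_mul, mul_comm]
    · rw [Finset.sum_congr rfl (g := fun _ => 81) (fun χ hχ => by
        rw [(hdeg χ).resolve_left (Finset.mem_filter.1 hχ).2]; norm_num),
        Finset.sum_const, smul_eq_mul, mul_comm]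
  have hcards : (Finset.univ.filter fun χ : {χ : IrrCharacter L // ¬ Z ≤ chKer χ} => charDegree (χ.1 : L → ℂ) = 3).card +
      (Finset.univ.filter fun χ : {χ : IrrCharacter L // ¬ Z ≤ chKer χ} => ¬ charDegree (χ.1 : L → ℂ) = 3).card =
      Nat.card {χ : IrrCharacter L // ¬ Z ≤ chKer χ} := by
    rw [Finset.card_filter_add_card_filter_not, Nat.card_eq_fintype_card]
    try rfl
  refine arith (a := (Finset.univ.filter fun χ : {χ : IrrCharacter L // ¬ Z ≤ chKer χ} =>
    charDegree (χ.1 : L → ℂ) = 3).card) (b := (Finset.univ.filter fun χ : {χ : IrrCharacter L // ¬ Z ≤ chKer χ} =>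
    ¬ charDegree (χ.1 : L → ℂ) = 3).card) ?_ ?_
  · omega
  · omega

end Cfsg.Agent.H686.SLNine
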