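import Mathlib
import Cfsg.Agent.H691.Defs
import Cfsg.Agent.H672.Over
import Cfsg.Agent.H681.DegBasic
import Cfsg.Agent.S2299
import Cfsg.Agent.H686.SLCover
import Cfsg.Agent.H686.SLHalf
import Cfsg.Agent.H686.SLNine
import Cfsg.Agent.H984.SLCyc
import Cfsg.Agent.ClassicalGeometry.PSL2Basic

/-!
# A group with the degrees of `SL₂(q)`: the case of a central extension (task 146, part F1 of S4854)

`sl_of_central`: `cd(G) = DS q`, `G' = N` perfect, `R ≤ N` centralized by `N`, `N / R ≃ PSL₂(q)`; then `N ≃ SL₂(q)`.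
-/

set_option autoImplicit false

namespace Cfsg.Agent.H686.SlCentral

open Cfsg Cfsg.Agent.H686.CharKit Cfsg.Agent.H67
open Cfsg.Agent.Characters
open Cfsg.Agent.H984.SLTwo
open scoped commutatorElement

/-- an irreducible character of `N` has degree dividing a degree of `G` -/
theorem exists_dvd {G : Type*} [Group G] [Finite G] (N : Subgroup G) [N.Normal] {θ : N → ℂ}
    (hθ : IsIrrCharacter N θ) : ∃ d ∈ charDegrees G, charDegree θ ∣ d := by
  obtain ⟨χ, hχ, h⟩ := Cfsg.Agent.H672.exists_over_subtype N hθ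
  exact ⟨charDegree χ, ⟨⟨χ, hχ⟩, rfl⟩, (Cfsg.Agent.H672.charDegree_dvd_of_over N hχ hθ h).1⟩

/-- a nonlinear irreducible character of `G` lies over a nonlinear irreducible character of the perfect group
`N = G'`, of degree dividing -/
theorem exists_under {G : Type*} [Group G] [Finite G] (N : Subgroup G) [N.Normal] (hN : commutator N = ⊤)
    (hG : commutator G = N) {d : ℕ} (hd : d ∈ charDegrees G) (h1 : d ≠ 1) :
    ∃ θ : N → ℂ, IsIrrCharacter N θ ∧ charDegree θ ∣ d ∧ charDegree θ ≠ 1 := by
  classical
  obtain ⟨χ, rfl⟩ := hd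
  obtain ⟨θ, hθ, h⟩ := Cfsg.Agent.H672.exists_under (f := N.subtype) χ.2
  refine ⟨θ, hθ, (Cfsg.Agent.H672.charDegree_dvd_of_over N χ.2 hθ h).1, ?_⟩
  intro hone
  apply h1
  let _ := Fintype.ofFinite N
  have hθ1 : θ 1 = 1 := (charDegree_eq_one_iff ⟨θ, hθ⟩).1 hone
  obtain ⟨f, rfl⟩ := Linear.exists_hom_of_isIrrCharacter hθ hθ1
  have hf : ∀ n : N, f n = 1 := by
    intro n
    have h4 : commutator N ≤ f.ker := Abelianization.commutator_subset_ker f
    exact h4 (by rw [hN]; trivial)
  rw [Cfsg.Agent.H672.over_iff] at h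
  have hsum : ∑ n : N, (χ : G → ℂ) n ≠ 0 := by
    intro h0
    apply h
    have h6 : ∀ n : N, ((χ : G → ℂ) ∘ N.subtype) n * (starRingEnd ℂ) ((f n : ℂˣ) : ℂ) = (χ : G → ℂ) n := by
      intro n
      rw [hf, Units.val_one, map_one, mul_one]
      rfl
    unfold classInner
    simp only [h6]
    rw [h0, mul_zero]
  obtain ⟨χ', hχ'⟩ := Cfsg.Agent.Blocks.Deflate.exists_deflation N (χ : G → ℂ) χ.2 hsum
  have hcomm : ∀ a b : G ⧸ N, a * b = b * a := by
    intro a b
    obtain ⟨a, rfl⟩ := QuotientGroup.mk_surjective a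
    obtain ⟨b, rfl⟩ := QuotientGroup.mk_surjective b
    rw [← QuotientGroup.mk_mul, ← QuotientGroup.mk_mul, QuotientGroup.eq, ← hG]
    have : (a * b)⁻¹ * (b * a) = ⁅b⁻¹, a⁻¹⁆ := by
      rw [commutatorElement_def]; group
    rw [this]
    exact Subgroup.commutator_mem_commutator (Subgroup.mem_top _) (Subgroup.mem_top _)
  rw [charDegree_eq_one_iff, hχ']
  exact CCBasic.irr_apply_one_of_comm hcomm χ'.2

theorem sl_of_central {G : Type*} [Group G] [Finite G] {F : Type*} [Field F] [Fintype F]
    (h5 : 5 ≤ Fintype.card F) (hD : charDegrees G = Cfsg.Agent.H691.DS (Fintype.card F)) (N R : Subgroup G) [N.Normal] [R.Normal]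
    (hRN : R ≤ N) (hN : ⁅N, N⁆ = N) (hG : commutator G = N) (hR : R ≤ Subgroup.centralizer (N : Set G))
    (e : (N ⧸ R.subgroupOf N) ≃* Matrix.ProjectiveSpecialLinearGroup (Fin 2) F) :
    Nonempty (N ≃* Matrix.SpecialLinearGroup (Fin 2) F) := by
  classical
  have _ := hRN
  have hNp : commutator N = ⊤ := by
    have h1 : (commutator N).map N.subtype = ⁅N, N⁆ := Subgroup.map_subtype_commutator N
    rw [hN] at h1
    rw [eq_top_iff]
    intro x _
    have h2 : (x : G) ∈ (commutator N).map N.subtype := by rw [h1]; exact x.2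
    obtain ⟨y, hy, hyx⟩ := h2
    have : y = x := Subtype.ext hyx
    rwa [← this]
  let f : N →* Matrix.ProjectiveSpecialLinearGroup (Fin 2) F :=
    e.toMonoidHom.comp (QuotientGroup.mk' (R.subgroupOf N))
  have hf : Function.Surjective f := e.surjective.comp (QuotientGroup.mk'_surjective _)
  have hfc : f.ker ≤ Subgroup.center N := by
    intro x hx
    have h1 : e (QuotientGroup.mk x) = 1 := hx
    have h2 : (QuotientGroup.mk x : N ⧸ R.subgroupOf N) = 1 := by
      rwa [EmbeddingLike.map_eq_one_iff] at h1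
    have h3 : (x : G) ∈ R := (QuotientGroup.eq_one_iff x).1 h2
    have h4 := Subgroup.mem_centralizer_iff.1 (hR h3)
    rw [Subgroup.mem_center_iff]
    intro y
    exact Subtype.ext (h4 y y.2)
  have hSp : commutator (Matrix.SpecialLinearGroup (Fin 2) F) = ⊤ :=
    TwoFusion.SLTwoFacts.commutator_eq_top (by omega)
  have hcardF : Nat.card F = Fintype.card F := Nat.card_eq_fintype_card
  obtain ⟨η, hη, hfη⟩ := SLCover.exists_surj hNp hSp f hf hfc
    (QuotientGroup.mk' (Subgroup.center (Matrix.SpecialLinearGroup (Fin 2) F))) (QuotientGroup.mk'_surjective _)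
    (by rw [QuotientGroup.ker_mk']) (by
      intro r hr hdvd
      by_cases h9 : Fintype.card F = 9
      · have h33 : Fact (Nat.Prime 3) := ⟨by norm_num⟩
        have hchar : CharP F 3 := by
          obtain ⟨p, hp⟩ := CharP.exists F
          obtain ⟨k, hpp, hk⟩ := FiniteField.card F p
          have h6 : p ∣ 3 ^ 2 := by
            rw [show (3 : ℕ) ^ 2 = Fintype.card F by rw [h9]; norm_num, hk]
            exact dvd_pow_self p k.pos.ne'
          have h7 : p = 3 := (Nat.prime_dvd_prime_iff_eq hpp (by norm_num)).1 (hpp.dvd_of_dvd_pow h6)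
          rwa [← h7]
        by_cases hr3 : r = 3
        · exfalso
          subst hr3
          obtain ⟨L, _, _, q, π, c, hq, -, hd⟩ := exists_pcov hr hNp hf hfc hdvd
          have hcard : Nat.card (Matrix.ProjectiveSpecialLinearGroup (Fin 2) F) = 360 := by
            have := ClassicalGeometry.PSL2Basic.card_PSL2_odd (F := F) (by rw [h9]; decide)
            rw [h9] at this
            omega
          obtain ⟨θ, hθ, hd3, hd1, hd2⟩ := SLNine.exists_bad_degree h9 hd hcard
          obtain ⟨d, hd', hdd⟩ := exists_dvd N (Core.isIrr_comp q hq hθ)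
          have h8 : charDegree (θ ∘ q) = charDegree θ := by
            have e1 := charDegree_irr (⟨θ ∘ q, Core.isIrr_comp q hq hθ⟩ : IrrCharacter N)
            have e2 := charDegree_irr (⟨θ, hθ⟩ : IrrCharacter L)
            have e3 : (θ ∘ q) 1 = θ 1 := by simp
            have e4 : ((charDegree (θ ∘ q) : ℕ) : ℂ) = ((charDegree θ : ℕ) : ℂ) := by
              rw [e1, e2]; exact e3
            exact_mod_cast e4
          rw [h8] at hdd
          rw [hD, h9] at hd'
          have h10 : d = 9 := by
            have h11 : 3 ∣ d := hd3.trans hdd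
            rcases hd' with h | h | h | h | h | h <;> omega
          subst h10
          have h12 : charDegree θ ∣ 3 ^ 2 := by simpa using hdd
          obtain ⟨k, hk, hk'⟩ := (Nat.dvd_prime_pow (by norm_num : Nat.Prime 3)).1 h12
          interval_cases k
          · rw [hk'] at hd3; norm_num at hd3
          · exact hd1 (by rw [hk']; norm_num)
          · exact hd2 (by rw [hk']; norm_num)
        · exact H60.CrossA.noPCov_SL_cross 1 3 hr hr3
      · exact H60.MultA.noPCov_SL ⟨le_rfl, fun _ => by omega, by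
          simp only [Set.mem_insert_iff, Set.mem_singleton_iff, Prod.mk.injEq, not_or, not_and]
          refine ⟨fun _ => by omega, fun _ => by omega, by norm_num, by norm_num, by norm_num⟩⟩ hr)
  by_cases hinj : Function.Injective η
  · exact ⟨(MulEquiv.ofBijective η ⟨hinj, hη⟩).symm⟩
  exfalso
  -- the kernel contains the central element of order two
  obtain ⟨x, hx, hx1⟩ : ∃ x, η x = 1 ∧ x ≠ 1 := by
    by_contra hcon
    push Not at hcon
    exact hinj ((injective_iff_map_eq_one η).2 hcon)
  have hxc : x ∈ Subgroup.center (Matrix.SpecialLinearGroup (Fin 2) F) := by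
    have h1 : f (η x) = QuotientGroup.mk' (Subgroup.center (Matrix.SpecialLinearGroup (Fin 2) F)) x :=
      DFunLike.congr_fun hfη x
    rw [hx, map_one] at h1
    exact (QuotientGroup.eq_one_iff x).1 h1.symm
  have hxz : x = z0 := by
    have h1 : ¬ NS ((x : Matrix.SpecialLinearGroup (Fin 2) F) : Matrix (Fin 2) (Fin 2) F) :=
      not_NS_of_mem_center hxc
    rcases scalar_cases h1 with h | h
    · exact absurd (by rw [h, upp_one_zero]) hx1
    · exact h
  subst hxz
  have h2 : ringChar F ≠ 2 := by
    intro h2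
    apply hx1
    have : CharP F 2 := by rw [← h2]; infer_instance
    have h3 : (-1 : Fˣ) = 1 := by
      apply Units.ext
      rw [Units.val_neg, Units.val_one]
      exact CharTwo.neg_eq 1
    show upp (-1) 0 = 1
    rw [h3, upp_one_zero]
  obtain ⟨m, hm⟩ : ∃ m, Fintype.card F = 2 * m + 1 := by
    have := FiniteField.odd_card_of_char_ne_two h2
    exact ⟨Fintype.card F / 2, by omega⟩
  have hm2 : 2 ≤ m := by omega
  have hodd : Odd (Fintype.card F) := ⟨m, hm⟩
  have key : ∀ d : ℕ, d ∈ charDegrees G → d ≠ 1 → (d = m + 1 ∨ d = m) →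
      ∃ ψ : Matrix.SpecialLinearGroup (Fin 2) F → ℂ, IsIrrCharacter _ ψ ∧ (∀ g, ψ (z0 * g) = ψ g) ∧ ψ 1 = ((d : ℕ) : ℂ) := by
    intro d hd hd1 hdm
    obtain ⟨θ, hθ, hdvd, hne⟩ := exists_under N hNp hG hd hd1
    refine ⟨θ ∘ η, Core.isIrr_comp η hη hθ, ?_, ?_⟩
    · intro g
      simp only [Function.comp_apply, map_mul, hx, one_mul]
    · have e2 := charDegree_irr (⟨θ, hθ⟩ : IrrCharacter N)
      have e3 : (θ ∘ η) 1 = ((charDegree θ : ℕ) : ℂ) := by
        rw [e2]; simp
      rw [e3]
      congr 1
      have hle : charDegree θ ≤ d := Nat.le_of_dvd (by omega) hdvd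
      have h6 := (S2299.result (F := F) hodd).1 (θ ∘ η) (Core.isIrr_comp η hη hθ)
      rw [e3] at h6
      have h7 : charDegree θ = 1 ∨ charDegree θ = 2 * m + 1 ∨ charDegree θ = 2 * m + 1 + 1 ∨
          charDegree θ + 1 = 2 * m + 1 ∨ charDegree θ = m + 1 ∨ charDegree θ = m := by
        rw [hm] at h6
        have e4 : (2 * m + 1 + 1) / 2 = m + 1 := by omega
        have e5 : (2 * m + 1 - 1) / 2 = m := by omega
        rw [e4, e5] at h6
        rcases h6 with h | h | h | h | h | h
        · left; exact_mod_cast h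
        · right; left; exact_mod_cast h
        · right; right; left; exact_mod_cast h
        · right; right; right; left
          have : ((charDegree θ : ℕ) : ℂ) + 1 = ((2 * m + 1 : ℕ) : ℂ) := by rw [h]; ring
          exact_mod_cast this
        · right; right; right; right; left; exact_mod_cast h
        · right; right; right; right; right; exact_mod_cast h
      rcases h7 with h | h | h | h | h | h
      · exact absurd h hne
      · omega
      · omega
      · omega
      · rcases hdm with hdm | hdm
        · omega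
        · omega
      · rcases hdm with hdm | hdm
        · exfalso
          rw [h, hdm] at hdvd
          have : m ∣ 1 := (Nat.dvd_add_right (dvd_refl m)).1 hdvd
          have := Nat.le_of_dvd one_pos this
          omega
        · omega
  obtain ⟨ψ1, a1, a2, a3⟩ := key (m + 1) (by
    rw [hD, hm]; right; right; right; right; left; ring) (by omega) (Or.inl rfl)
  obtain ⟨ψ2, b1, b2, b3⟩ := key m (by
    rw [hD, hm]; right; right; right; right; right; ring) (by omega) (Or.inr rfl)
  have c1 := SLHalf.halves_plus h2 hm hm2 a1 a2 a3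
  have c2 := SLHalf.halves_minus h2 hm hm2 b1 b2 b3
  exact (Nat.not_odd_iff_even.2 c1) c2

end Cfsg.Agent.H686.SlCentral
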